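import Groth.Agent.Pi1.K868.BcDefEs
import Mathlib.RingTheory.Noetherian.Basic

/-!
# Essential surjectivity for principal covers over Noetherian bases

`EScN n f b`: the predicate `K868.Bc.ESc n f b` restricted to Noetherian strictly henselian bases `Spec O ⟶ S`.
-/

set_option autoImplicit false
universe u

open CategoryTheory CategoryTheory.Limits AlgebraicGeometry IsLocalRing

namespace K260.Es

open Groth.Agent.Etrest.StrictLoc K868.Bc

/-- `ESc` for Noetherian `O`. -/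
def EScN (n : ℕ) {X Y S : Scheme.{u}} (f : X ⟶ Y) (b : Y ⟶ S) : Prop :=
  ∀ (O A : Type u) [CommRing O] [IsLocalRing O] [CommRing A] [IsLocalRing A]
    (_ : HenselianLocalRing O) (_ : IsSepClosed (ResidueField O)) (_ : IsNoetherianRing O) (_ : IsUnit (n : O))
    (t : Spec (CommRingCat.of O) ⟶ S) ⦃Y₁ : Scheme.{u}⦄ (c : Y₁ ⟶ Y) (b₁ : Y₁ ⟶ Spec (CommRingCat.of O))
    (_ : IsPullback c b₁ b t) (σ : Spec (CommRingCat.of A) ⟶ Y₁) (_ : IsStrictLoc σ)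
    (_ : b₁ (σ (closedPoint A)) = closedPoint O)
    ⦃XA : Scheme.{u}⦄ (x : XA ⟶ X) (fA : XA ⟶ Spec (CommRingCat.of A)) (_ : IsPullback x fA f (σ ≫ c))
    ⦃Xs : Scheme.{u}⦄ (i : Xs ⟶ XA) (q : Xs ⟶ Spec (CommRingCat.of (ResidueField O)))
    (_ : IsPullback i q (fA ≫ σ ≫ b₁) (resPt O))
    (G : Type) [Group G] [Finite G] (_ : Nat.card G ∣ n) (P' : FEt.Cat Xs) (ρ' : G →* Aut P')
    (_ : SGA1t.IsPrincipal G P' ρ'), Comes i G P' ρ'

theorem escN_of_esc {n : ℕ} {X Y S : Scheme.{u}} {f : X ⟶ Y} {b : Y ⟶ S} (h : ESc n f b) : EScN n f b := by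
  intro O A _ _ _ _ h1 h2 _ h3 t Y₁ c b₁ h4 σ h5 h6 XA x fA h7 Xs i q h8 G _ _ h9 P' ρ' h10
  exact h O A h1 h2 h3 t c b₁ h4 σ h5 h6 x fA h7 i q h8 G h9 P' ρ' h10

end K260.Es
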