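import Groth.Agent.Pi1.K260.D1Plan2

/-!
# Nodes CMPEX and CMPCOMP of D1-ES
-/

set_option autoImplicit false
universe u

open CategoryTheory CategoryTheory.Limits AlgebraicGeometry IsLocalRing

namespace K260.D1

/-- **Node CMPEX.** -/
theorem cmpEx (h₂ : Loc2.{u}) : CmpEx.{u} := by
  intro R _ _ X Z W T p j w t hj hq hw hT G _ _ hL P₀ ρ₀ hP B B' b b' hb hb' F F' y hy
  obtain ⟨M, m, m', h, het, y', hy', δ, hδ⟩ := h₂ R p j w hj hq hw G hL P₀ ρ₀ hP b b' hb hb' F.S F'.S y hy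
  have hm : Etale m := by
    have h1 : Etale (pullback.lift m m' h.symm ≫ pullback.fst b b') := inferInstance
    rwa [pullback.lift_fst] at h1
  obtain ⟨H, hH, hH'⟩ := exists_ext hT (c := m ≫ b) (fun v => δ (xdp F F' m rfl m' h v))
    (hδ.lc.comp_continuous (xdp F F' m rfl m' h).continuous)
  exact ⟨⟨M, m, m', h, het, δ, hδ, H, hH, hH'⟩, y', hy'⟩

section Tri

variable {G : Type} [Group G] {X Z W T : Scheme.{u}} {j : X ⟶ Z} {w : W ⟶ X} {t : T ⟶ Z} {P₀ : FEt.Cat W}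
  {ρ₀ : G →* Aut P₀} {B B' B'' N A A' : Scheme.{u}} {b : B ⟶ Z} {b' : B' ⟶ Z} {b'' : B'' ⟶ Z} {d : N ⟶ Z}
  (S : Sol j w P₀ ρ₀ b) (S' : Sol j w P₀ ρ₀ b') (S'' : Sol j w P₀ ρ₀ b'')
  (m₁ : N ⟶ B) (h₁ : m₁ ≫ b = d) (m₂ : N ⟶ B') (h₂ : m₂ ≫ b' = d) (m₃ : N ⟶ B'') (h₃ : m₃ ≫ b'' = d)

/-- Triple fibre product. -/
noncomputable abbrev D3 : Scheme.{u} :=
  pullback (pullback.snd (pullback.snd S.P.hom (kap j m₁ h₁)) (pullback.snd S'.P.hom (kap j m₂ h₂)))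
    (pullback.fst (pullback.snd S'.P.hom (kap j m₂ h₂)) (pullback.snd S''.P.hom (kap j m₃ h₃)))

/-- First projection. -/
noncomputable def q12 : D3 S S' S'' m₁ h₁ m₂ h₂ m₃ h₃ ⟶ Dom S S' m₁ h₁ m₂ h₂ := pullback.fst _ _

/-- Second projection. -/
noncomputable def q23 : D3 S S' S'' m₁ h₁ m₂ h₂ m₃ h₃ ⟶ Dom S' S'' m₂ h₂ m₃ h₃ := pullback.snd _ _

theorem q_X : q12 S S' S'' m₁ h₁ m₂ h₂ m₃ h₃ ≫ dX' S S' m₁ h₁ m₂ h₂ =
    q23 S S' S'' m₁ h₁ m₂ h₂ m₃ h₃ ≫ dX S' S'' m₂ h₂ m₃ h₃ := by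
  rw [q12, q23, dX', dX, pullback.condition_assoc]

theorem q_M : q12 S S' S'' m₁ h₁ m₂ h₂ m₃ h₃ ≫ dM S S' m₁ h₁ m₂ h₂ =
    q23 S S' S'' m₁ h₁ m₂ h₂ m₃ h₃ ≫ dM S' S'' m₂ h₂ m₃ h₃ := by
  rw [q12, q23, dM_eq, dM, pullback.condition_assoc]

/-- The structure map. -/
noncomputable def d3 : D3 S S' S'' m₁ h₁ m₂ h₂ m₃ h₃ ⟶ pullback j d :=
  q12 S S' S'' m₁ h₁ m₂ h₂ m₃ h₃ ≫
    pullback.fst (pullback.snd S.P.hom (kap j m₁ h₁)) (pullback.snd S'.P.hom (kap j m₂ h₂)) ≫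
    pullback.snd S.P.hom (kap j m₁ h₁)

theorem isFinite_d3 : IsFinite (d3 S S' S'' m₁ h₁ m₂ h₂ m₃ h₃) := by
  have e1 := Dif.isFinite_hom S.P
  have e2 := Dif.isFinite_hom S'.P
  have e3 := Dif.isFinite_hom S''.P
  have e4 : IsFinite (q12 S S' S'' m₁ h₁ m₂ h₂ m₃ h₃) := inferInstanceAs (IsFinite (pullback.fst _ _))
  rw [d3]
  infer_instance

theorem etale_d3 : Etale (d3 S S' S'' m₁ h₁ m₂ h₂ m₃ h₃) := by
  have e1 := Dif.etale_hom S.P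
  have e2 := Dif.etale_hom S'.P
  have e3 := Dif.etale_hom S''.P
  have e4 : Etale (q12 S S' S'' m₁ h₁ m₂ h₂ m₃ h₃) := inferInstanceAs (Etale (pullback.fst _ _))
  rw [d3]
  infer_instance

theorem d3_snd : d3 S S' S'' m₁ h₁ m₂ h₂ m₃ h₃ ≫ pullback.snd j d =
    q12 S S' S'' m₁ h₁ m₂ h₂ m₃ h₃ ≫ dM S S' m₁ h₁ m₂ h₂ := by
  rw [d3, dM, Sol.pmM]
  simp only [Category.assoc]

theorem d3_fst : d3 S S' S'' m₁ h₁ m₂ h₂ m₃ h₃ ≫ pullback.fst j d =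
    q12 S S' S'' m₁ h₁ m₂ h₂ m₃ h₃ ≫ dX S S' m₁ h₁ m₂ h₂ ≫ S.P.hom ≫ pullback.fst j b := by
  rw [dX, Category.assoc, S.pm_cond_fst, d3]
  simp only [Category.assoc]

/-- The third projection. -/
noncomputable def q13 : D3 S S' S'' m₁ h₁ m₂ h₂ m₃ h₃ ⟶ Dom S S'' m₁ h₁ m₃ h₃ :=
  dp S S'' m₁ h₁ m₃ h₃ (q12 S S' S'' m₁ h₁ m₂ h₂ m₃ h₃ ≫ dX S S' m₁ h₁ m₂ h₂)
    (q23 S S' S'' m₁ h₁ m₂ h₂ m₃ h₃ ≫ dX' S' S'' m₂ h₂ m₃ h₃)
    (q12 S S' S'' m₁ h₁ m₂ h₂ m₃ h₃ ≫ dM S S' m₁ h₁ m₂ h₂)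
    (by rw [Category.assoc, Category.assoc, d_cond])
    (by rw [q_M, Category.assoc, Category.assoc, d_cond'])
    (by rw [Category.assoc, Category.assoc, d_cond'', ← Category.assoc, q_X, Category.assoc, d_cond''])

/-- The point of the triple product. -/
theorem exists_d3 (x : A ⟶ S.P.left) (x' : A ⟶ S'.P.left) (x'' : A ⟶ S''.P.left) (l : A ⟶ N)
    (e : x ≫ S.P.hom ≫ pullback.snd j b = l ≫ m₁) (e' : x' ≫ S'.P.hom ≫ pullback.snd j b' = l ≫ m₂)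
    (e'' : x'' ≫ S''.P.hom ≫ pullback.snd j b'' = l ≫ m₃)
    (f : x ≫ S.P.hom ≫ pullback.fst j b = x' ≫ S'.P.hom ≫ pullback.fst j b')
    (f' : x' ≫ S'.P.hom ≫ pullback.fst j b' = x'' ≫ S''.P.hom ≫ pullback.fst j b'') :
    ∃ v : A ⟶ D3 S S' S'' m₁ h₁ m₂ h₂ m₃ h₃,
      v ≫ q12 S S' S'' m₁ h₁ m₂ h₂ m₃ h₃ = dp S S' m₁ h₁ m₂ h₂ x x' l e e' f ∧
      v ≫ q23 S S' S'' m₁ h₁ m₂ h₂ m₃ h₃ = dp S' S'' m₂ h₂ m₃ h₃ x' x'' l e' e'' f' ∧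
      v ≫ q13 S S' S'' m₁ h₁ m₂ h₂ m₃ h₃ = dp S S'' m₁ h₁ m₃ h₃ x x'' l e e'' (f.trans f') := by
  have h1 : dp S S' m₁ h₁ m₂ h₂ x x' l e e' f ≫ pullback.snd _ _ =
      dp S' S'' m₂ h₂ m₃ h₃ x' x'' l e' e'' f' ≫ pullback.fst _ _ := by
    rw [dp_snd, dp_fst]
  have e1 : pullback.lift _ _ h1 ≫ q12 S S' S'' m₁ h₁ m₂ h₂ m₃ h₃ = dp S S' m₁ h₁ m₂ h₂ x x' l e e' f :=
    pullback.lift_fst _ _ _
  have e2 : pullback.lift _ _ h1 ≫ q23 S S' S'' m₁ h₁ m₂ h₂ m₃ h₃ = dp S' S'' m₂ h₂ m₃ h₃ x' x'' l e' e'' f' :=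
    pullback.lift_snd _ _ _
  refine ⟨pullback.lift _ _ h1, e1, e2, ?_⟩
  have c1 : pullback.lift _ _ h1 ≫ q12 S S' S'' m₁ h₁ m₂ h₂ m₃ h₃ ≫ dX S S' m₁ h₁ m₂ h₂ = x := by
    rw [← Category.assoc, e1, dp_dX]
  have c2 : pullback.lift _ _ h1 ≫ q23 S S' S'' m₁ h₁ m₂ h₂ m₃ h₃ ≫ dX' S' S'' m₂ h₂ m₃ h₃ = x'' := by
    rw [← Category.assoc, e2, dp_dX']
  have c3 : pullback.lift _ _ h1 ≫ q12 S S' S'' m₁ h₁ m₂ h₂ m₃ h₃ ≫ dM S S' m₁ h₁ m₂ h₂ = l := by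
    rw [← Category.assoc, e1, dp_dM]
  rw [q13, comp_dp _ _ _ _ _ _ _ _ _ _ _ _ _ (by rw [c1, c3, e]) (by rw [c2, c3, e'']) (by rw [c1, c2, f, f'])]
  exact dp_congr _ _ _ _ _ _ c1 c2 c3 _ _ _ _ _ _

variable {S S' S'' m₁ h₁ m₂ h₂ m₃ h₃}

/-- Comparisons compose. -/
theorem tri {R : Type u} [CommRing R] [IsLocalRing R] (p : Z ⟶ Spec (CommRingCat.of R)) [hj : IsOpenImmersion j]
    [hq : QuasiCompact j] [hw : IsClosedImmersion w] [Finite G] (hL3 : Loc3.{u}) (hL : Loc p j w G)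
    (hP : SGA1t.IsPrincipal G P₀ ρ₀) [hd : Etale d] {δ₁₂ : ↥(Dom S S' m₁ h₁ m₂ h₂) → G}
    (D₁₂ : Del S S' m₁ h₁ m₂ h₂ δ₁₂) {δ₂₃ : ↥(Dom S' S'' m₂ h₂ m₃ h₃) → G}
    (D₂₃ : Del S' S'' m₂ h₂ m₃ h₃ δ₂₃) {δ₁₃ : ↥(Dom S S'' m₁ h₁ m₃ h₃) → G}
    (D₁₃ : Del S S'' m₁ h₁ m₃ h₃ δ₁₃) (y : N) (hy : p (d y) = closedPoint R) :
    ∃ O : N.Opens, y ∈ O ∧ ∀ {A : Scheme.{u}} (x : A ⟶ S.P.left) (x' : A ⟶ S'.P.left) (x'' : A ⟶ S''.P.left)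
      (l : A ⟶ N) (e : x ≫ S.P.hom ≫ pullback.snd j b = l ≫ m₁)
      (e' : x' ≫ S'.P.hom ≫ pullback.snd j b' = l ≫ m₂)
      (e'' : x'' ≫ S''.P.hom ≫ pullback.snd j b'' = l ≫ m₃)
      (f : x ≫ S.P.hom ≫ pullback.fst j b = x' ≫ S'.P.hom ≫ pullback.fst j b')
      (f' : x' ≫ S'.P.hom ≫ pullback.fst j b' = x'' ≫ S''.P.hom ≫ pullback.fst j b'') (a : A), l a ∈ O →
      δ₁₃ (dp S S'' m₁ h₁ m₃ h₃ x x'' l e e'' (f.trans f') a) =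
        δ₂₃ (dp S' S'' m₂ h₂ m₃ h₃ x' x'' l e' e'' f' a) * δ₁₂ (dp S S' m₁ h₁ m₂ h₂ x x' l e e' f a) := by
  have hfin := isFinite_d3 S S' S'' m₁ h₁ m₂ h₂ m₃ h₃
  have het := etale_d3 S S' S'' m₁ h₁ m₂ h₂ m₃ h₃
  obtain ⟨O, hyO, hO⟩ := hL3 R p j w hj hq hw G hL d hd (d3 S S' S'' m₁ h₁ m₂ h₂ m₃ h₃) hfin het G
    (fun a => δ₁₃ (q13 S S' S'' m₁ h₁ m₂ h₂ m₃ h₃ a))
    (fun a => δ₂₃ (q23 S S' S'' m₁ h₁ m₂ h₂ m₃ h₃ a) * δ₁₂ (q12 S S' S'' m₁ h₁ m₂ h₂ m₃ h₃ a))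
    (D₁₃.lc.comp_continuous (q13 S S' S'' m₁ h₁ m₂ h₂ m₃ h₃).continuous)
    ((D₂₃.lc.comp_continuous (q23 S S' S'' m₁ h₁ m₂ h₂ m₃ h₃).continuous).mul
      (D₁₂.lc.comp_continuous (q12 S S' S'' m₁ h₁ m₂ h₂ m₃ h₃).continuous))
    (by
      rintro a ⟨y₁, hy₁⟩
      obtain ⟨a', ha', -⟩ := Scheme.Pullback.exists_preimage_pullback
        (f := d3 S S' S'' m₁ h₁ m₂ h₂ m₃ h₃ ≫ pullback.fst j d) (g := w) a y₁ hy₁.symm
      obtain ⟨K, _, _, κ, rfl⟩ := Dif.exists_pt a'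
      obtain ⟨v, hv⟩ : ∃ v, κ ≫ pullback.fst (d3 S S' S'' m₁ h₁ m₂ h₂ m₃ h₃ ≫ pullback.fst j d) w = v := ⟨_, rfl⟩
      obtain ⟨y, hy⟩ : ∃ y, κ ≫ pullback.snd (d3 S S' S'' m₁ h₁ m₂ h₂ m₃ h₃ ≫ pullback.fst j d) w = y := ⟨_, rfl⟩
      have hvy : v ≫ d3 S S' S'' m₁ h₁ m₂ h₂ m₃ h₃ ≫ pullback.fst j d = y ≫ w := by
        rw [← hv, ← hy, Category.assoc, pullback.condition, Category.assoc]
      have hva : v default = a := by rw [← ha', ← hv, Scheme.Hom.comp_apply]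
      obtain ⟨x, x', l, e, e', f, hx⟩ := exists_dp S S' m₁ h₁ m₂ h₂ (v ≫ q12 S S' S'' m₁ h₁ m₂ h₂ m₃ h₃)
      obtain ⟨x₂, x'', l₂, e₂, e'', f', hx₂⟩ := exists_dp S' S'' m₂ h₂ m₃ h₃ (v ≫ q23 S S' S'' m₁ h₁ m₂ h₂ m₃ h₃)
      obtain rfl : x' = x₂ := by
        have h1 := congrArg (v ≫ ·) (q_X S S' S'' m₁ h₁ m₂ h₂ m₃ h₃)
        rw [← Category.assoc, hx, dp_dX', ← Category.assoc, hx₂, dp_dX] at h1
        exact h1
      obtain rfl : l = l₂ := by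
        have h1 := congrArg (v ≫ ·) (q_M S S' S'' m₁ h₁ m₂ h₂ m₃ h₃)
        rw [← Category.assoc, hx, dp_dM, ← Category.assoc, hx₂, dp_dM] at h1
        exact h1
      have hx₃ : v ≫ q13 S S' S'' m₁ h₁ m₂ h₂ m₃ h₃ = dp S S'' m₁ h₁ m₃ h₃ x x'' l e e'' (f.trans f') := by
        have c1 : v ≫ q12 S S' S'' m₁ h₁ m₂ h₂ m₃ h₃ ≫ dX S S' m₁ h₁ m₂ h₂ = x := by
          rw [← Category.assoc, hx, dp_dX]
        have c2 : v ≫ q23 S S' S'' m₁ h₁ m₂ h₂ m₃ h₃ ≫ dX' S' S'' m₂ h₂ m₃ h₃ = x'' := by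
          rw [← Category.assoc, hx₂, dp_dX']
        have c3 : v ≫ q12 S S' S'' m₁ h₁ m₂ h₂ m₃ h₃ ≫ dM S S' m₁ h₁ m₂ h₂ = l := by
          rw [← Category.assoc, hx, dp_dM]
        rw [q13, comp_dp _ _ _ _ _ _ _ _ _ _ _ _ _ (by rw [c1, c3, e]) (by rw [c2, c3, e''])
          (by rw [c1, c2, f, f'])]
        exact dp_congr _ _ _ _ _ _ c1 c2 c3 _ _ _ _ _ _
      have k1 : x ≫ S.P.hom ≫ pullback.fst j b = y ≫ w := by
        rw [← hvy, d3_fst, ← Category.assoc v, hx, ← Category.assoc (dp _ _ _ _ _ _ _ _ _ _ _ _), dp_dX]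
      have k2 : x' ≫ S'.P.hom ≫ pullback.fst j b' = y ≫ w := by rw [← f, k1]
      have k3 : x'' ≫ S''.P.hom ≫ pullback.fst j b'' = y ≫ w := by rw [← f', k2]
      have t12 := D₁₂.theta K x x' l e e' f y k1 k2
      have t23 := D₂₃.theta K x' x'' l e' e'' f' y k2 k3
      have t13 := D₁₃.theta K x x'' l e e'' (f.trans f') y k1 k3
      rw [← hva]
      simp only [← Scheme.Hom.comp_apply]
      rw [hx, hx₂, hx₃]
      apply Dif.act_injective hP (pullback.lift x y k1 ≫ S.θ)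
      rw [Category.assoc, ← t13, t23, ← Category.assoc, t12, ← Dif.act_act]
      simp only [Category.assoc])
    y hy
  refine ⟨O, hyO, ?_⟩
  intro A x x' x'' l e e' e'' f f' a ha
  obtain ⟨v, hv1, hv2, hv3⟩ := exists_d3 S S' S'' m₁ h₁ m₂ h₂ m₃ h₃ x x' x'' l e e' e'' f f'
  rw [← hv1, ← hv2, ← hv3]
  have h1 : (v ≫ d3 S S' S'' m₁ h₁ m₂ h₂ m₃ h₃ ≫ pullback.snd j d) = l := by
    rw [d3_snd, ← Category.assoc, hv1, dp_dM]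
  exact hO (v a) (by rw [← Scheme.Hom.comp_apply, h1]; exact ha)

end Tri

/-- The value of a comparison function on a frame, after restriction. -/
theorem Cmp.eq_comp {G : Type} [Group G] {X Z W T : Scheme.{u}} {j : X ⟶ Z} {w : W ⟶ X} {t : T ⟶ Z}
    {P₀ : FEt.Cat W} {ρ₀ : G →* Aut P₀} {B B' N : Scheme.{u}} {b : B ⟶ Z} {b' : B' ⟶ Z} {d : N ⟶ Z}
    {F : FSol t j w P₀ ρ₀ b} {F' : FSol t j w P₀ ρ₀ b'} (C : Cmp F F') (n : N ⟶ C.M) {m₂ : N ⟶ B}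
    {h₂ : m₂ ≫ b = d} {m₂' : N ⟶ B'} {h₂' : m₂' ≫ b' = d} (k : m₂ = n ≫ C.m) (k' : m₂' = n ≫ C.m')
    (h3 : n ≫ C.m ≫ b = d) (v : ↥(XT j t d)) :
    C.H (tmap t n h3 (xq j t d v)) = C.δ (dmg F.S F'.S (h := rfl) (h' := C.h) n k k' (xdp F F' m₂ h₂ m₂' h₂' v)) := by
  rw [← Scheme.Hom.comp_apply, ← Scheme.Hom.comp_apply, ← xmap_xq n h3,
    xdp_dmg F F' C.m rfl C.m' C.h n k k' h3, Scheme.Hom.comp_apply, Scheme.Hom.comp_apply, C.eq]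

/-- **Node CMPCOMP.** -/
theorem cmpComp (hL3 : Loc3.{u}) : CmpComp.{u} := by
  intro R _ _ X Z W T p j w t hj hq hw hT G _ _ hL P₀ ρ₀ hP B B' B'' b b' b'' hb hb' hb'' F F' F'' C C' C'' K _ _
    z l l' l'' e1 e2 e3 e e' e'' hz
  have hC := C.et
  have hC' := C'.et
  have hC'' := C''.et
  -- the common refinement
  let N₁ := pullback C.m' C'.m
  have hN₁ : (pullback.fst C.m' C'.m ≫ C.m) ≫ b = (pullback.snd C.m' C'.m ≫ C'.m') ≫ b'' := by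
    rw [Category.assoc, Category.assoc, ← C.h, C'.h, pullback.condition_assoc]
  let f₁ : N₁ ⟶ pullback b b'' := pullback.lift _ _ hN₁
  let N := pullback f₁ (pullback.lift C''.m C''.m' C''.h.symm)
  let n : N ⟶ C.M := pullback.fst f₁ (pullback.lift C''.m C''.m' C''.h.symm) ≫ pullback.fst C.m' C'.m
  let n' : N ⟶ C'.M := pullback.fst f₁ (pullback.lift C''.m C''.m' C''.h.symm) ≫ pullback.snd C.m' C'.m
  let n'' : N ⟶ C''.M := pullback.snd f₁ (pullback.lift C''.m C''.m' C''.h.symm)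
  have k1 : n ≫ C.m = n'' ≫ C''.m := by
    have h1 := congrArg (· ≫ pullback.fst b b'')
      (pullback.condition (f := f₁) (g := pullback.lift C''.m C''.m' C''.h.symm))
    simp only [f₁, Category.assoc, pullback.lift_fst] at h1
    simpa only [n, n'', Category.assoc] using h1
  have k2 : n ≫ C.m' = n' ≫ C'.m := by
    simp only [n, n', Category.assoc, pullback.condition]
  have k3 : n' ≫ C'.m' = n'' ≫ C''.m' := by
    have h1 := congrArg (· ≫ pullback.snd b b'')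
      (pullback.condition (f := f₁) (g := pullback.lift C''.m C''.m' C''.h.symm))
    simp only [f₁, Category.assoc, pullback.lift_snd] at h1
    simpa only [n', n'', Category.assoc] using h1
  have et1 : Etale C.m := by
    have h1 : Etale (pullback.lift C.m C.m' C.h.symm ≫ pullback.fst b b') := inferInstance
    rwa [pullback.lift_fst] at h1
  have et2 : Etale C'.m := by
    have h1 : Etale (pullback.lift C'.m C'.m' C'.h.symm ≫ pullback.fst b' b'') := inferInstance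
    rwa [pullback.lift_fst] at h1
  have hd : Etale (n ≫ C.m ≫ b) := by
    simp only [n]
    infer_instance
  -- the geometric point of `N`
  obtain ⟨ν, hν, hν', hν''⟩ : ∃ ν : Spec (CommRingCat.of K) ⟶ N, ν ≫ n = l ∧ ν ≫ n' = l' ∧ ν ≫ n'' = l'' := by
    have h1 : pullback.lift l l' e2 ≫ f₁ = l'' ≫ pullback.lift C''.m C''.m' C''.h.symm := by
      apply pullback.hom_ext
      · simp only [f₁, Category.assoc, pullback.lift_fst, pullback.lift_fst_assoc]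
        exact e1
      · simp only [f₁, Category.assoc, pullback.lift_snd, pullback.lift_snd_assoc]
        exact e3
    refine ⟨pullback.lift _ _ h1, ?_, ?_, ?_⟩
    · simp only [n, pullback.lift_fst_assoc, pullback.lift_fst]
    · simp only [n', pullback.lift_fst_assoc, pullback.lift_snd]
    · simp only [n'', pullback.lift_snd]
  -- restrictions
  have g1 : (n ≫ C.m) ≫ b = n ≫ C.m ≫ b := Category.assoc _ _ _
  have g2 : (n ≫ C.m') ≫ b' = n ≫ C.m ≫ b := by rw [Category.assoc, C.h]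
  have g3 : (n' ≫ C'.m') ≫ b'' = n ≫ C.m ≫ b := by rw [Category.assoc, C'.h, ← Category.assoc, ← k2, g2]
  have D₁₂ := C.del.comp' (h₂ := g1) (h₂' := g2) n rfl rfl
  have D₂₃ := C'.del.comp' (h₂ := g2) (h₂' := g3) n' k2 rfl
  have D₁₃ := C''.del.comp' (h₂ := g1) (h₂' := g3) n'' k1 k3
  have hyν : p ((n ≫ C.m ≫ b) (ν default)) = closedPoint R := by
    have h1 : ν ≫ n ≫ C.m ≫ b = z ≫ t := by rw [← Category.assoc, hν, ← e]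
    rw [← hz, ← Scheme.Hom.comp_apply ν, h1, Scheme.Hom.comp_apply]
  obtain ⟨O, hyO, hO⟩ := tri p hL3 hL hP D₁₂ D₂₃ D₁₃ (ν default) hyν
  -- functions on `T ×_Z N`
  have s1 : n ≫ C.m ≫ b = n ≫ C.m ≫ b := rfl
  have s2 : n' ≫ C'.m ≫ b' = n ≫ C.m ≫ b := by rw [← Category.assoc, ← k2, g2]
  have s3 : n'' ≫ C''.m ≫ b = n ≫ C.m ≫ b := by rw [← Category.assoc, ← k1, g1]
  have key := eq_of_xq hT (c := n ≫ C.m ≫ b) (H := fun a => C''.H (tmap t n'' s3 a))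
    (H' := fun a => C'.H (tmap t n' s2 a) * C.H (tmap t n s1 a))
    (C''.lc.comp_continuous (tmap t n'' s3).continuous)
    ((C'.lc.comp_continuous (tmap t n' s2).continuous).mul (C.lc.comp_continuous (tmap t n s1).continuous)) O
    (by
      intro v hv
      dsimp only
      rw [C''.eq_comp n'' (h₂ := g1) (h₂' := g3) k1 k3 s3 v, C'.eq_comp n' (h₂ := g2) (h₂' := g3) k2 rfl s2 v,
        C.eq_comp n (h₂ := g1) (h₂' := g2) rfl rfl s1 v]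
      exact hO _ _ _ _ _ _ _ _ _ _ hv)
  have hzν : z ≫ t = ν ≫ n ≫ C.m ≫ b := by rw [e, ← hν, Category.assoc]
  have fin := key (pullback.lift z ν hzν default) (by
    rw [← Scheme.Hom.comp_apply, pullback.lift_snd]
    exact hyO)
  dsimp only at fin
  simp only [← Scheme.Hom.comp_apply] at fin
  subst hν hν' hν''
  rw [lift_tmap n'' s3 z ν hzν e'', lift_tmap n' s2 z ν hzν e', lift_tmap n s1 z ν hzν e] at fin
  exact fin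

end K260.D1
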