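import Groth.Agent.Pi1.K260.EscCore
import Groth.Agent.Pi1.K166.D1LocOf
import Groth.Agent.EtAcyc.K158.EsDesc

/-!
# Essential surjectivity and proper morphisms, for a fixed base `t : Spec O ⟶ S`
-/

set_option autoImplicit false
universe u

open CategoryTheory CategoryTheory.Limits AlgebraicGeometry IsLocalRing

namespace K260.Es

open Groth.Agent Groth.Agent.Etrest.StrictLoc Groth.Agent.Sga1.UlaSL K868.Bc K260.D1 K166.D1LocOf K158.EsDesc

/-- The local conditions from `ESc`, `FF`, `Faith` at a fixed base. -/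
theorem loc_of_at {n : ℕ} {X Z Y S : Scheme.{u}} {j : X ⟶ Z} {p : Z ⟶ Y} {b : Y ⟶ S}
    {O A : Type u} [CommRing O] [IsLocalRing O] [CommRing A] [IsLocalRing A] {t : Spec (CommRingCat.of O) ⟶ S}
    (hE : EScAt n j (p ≫ b) O t) (hF : FFAt (n * n) j (p ≫ b) O t) (hFa : FaithAt j (p ≫ b) O t)
    {Y₁ : Scheme.{u}} {c : Y₁ ⟶ Y} {b₁ : Y₁ ⟶ Spec (CommRingCat.of O)} (sqY : IsPullback c b₁ b t)
    {σ : Spec (CommRingCat.of A) ⟶ Y₁} (hσ : IsStrictLoc σ) (hσc : b₁ (σ (closedPoint A)) = closedPoint O)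
    {ZA XA Xs : Scheme.{u}} {z : ZA ⟶ Z} {pA : ZA ⟶ Spec (CommRingCat.of A)} (sqZ : IsPullback z pA p (σ ≫ c))
    {x : XA ⟶ X} {jA : XA ⟶ ZA} (sqX : IsPullback x jA j z) {i : Xs ⟶ XA}
    {q : Xs ⟶ Spec (CommRingCat.of (ResidueField O))} (sqs : IsPullback i q (jA ≫ pA ≫ σ ≫ b₁) (resPt O))
    (G : Type) [Group G] [Finite G] (hG : Nat.card G ∣ n) : Loc pA jA i G := by
  have sq1 : IsPullback (pullback.fst p c) (pullback.snd p c ≫ b₁) (p ≫ b) t :=
    (IsPullback.of_hasPullback p c).flip.paste_horiz sqY.flip |>.flip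
  have hw := weaklyEtale_wm hσ sqZ
  have key : ∀ (D : Type u) [CommRing D] [IsLocalRing D] (σD : Spec (CommRingCat.of D) ⟶ ZA),
      pA (σD (closedPoint D)) = closedPoint A →
      (pullback.snd p c ≫ b₁) ((σD ≫ wm sqZ) (closedPoint D)) = closedPoint O := by
    intro D _ _ σD hD
    rw [← Scheme.Hom.comp_apply, Category.assoc, ← Category.assoc (wm sqZ), wm_snd, Category.assoc,
      Scheme.Hom.comp_apply, Scheme.Hom.comp_apply, hD, Scheme.Hom.comp_apply, hσc]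
  have key2 : ∀ (D : Type u) [CommRing D] [IsLocalRing D] (σD : Spec (CommRingCat.of D) ⟶ ZA)
      ⦃XD : Scheme.{u}⦄ (x' : XD ⟶ XA) (f : XD ⟶ Spec (CommRingCat.of D)), IsPullback x' f jA σD →
      IsPullback (x' ≫ x) f j ((σD ≫ wm sqZ) ≫ pullback.fst p c) := by
    intro D _ _ σD XD x' f hf
    rw [Category.assoc, wm_fst]
    exact (hf.flip.paste_vert sqX.flip).flip
  have key3 : ∀ (D : Type u) [CommRing D] [IsLocalRing D] (σD : Spec (CommRingCat.of D) ⟶ ZA)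
      ⦃XD : Scheme.{u}⦄ (x' : XD ⟶ XA) (f : XD ⟶ Spec (CommRingCat.of D)), IsPullback x' f jA σD →
      f ≫ (σD ≫ wm sqZ) ≫ pullback.snd p c ≫ b₁ = x' ≫ jA ≫ pA ≫ σ ≫ b₁ := by
    intro D _ _ σD XD x' f hf
    rw [Category.assoc, ← Category.assoc (wm sqZ), wm_snd, ← Category.assoc x', hf.w]
    simp only [Category.assoc]
  constructor
  · intro D _ _ σD hσD hD XD WD x' f hf i' w' hi' P' ρ' hP'
    refine hE D (pullback.fst p c) (pullback.snd p c ≫ b₁) sq1 (σD ≫ wm sqZ) (hσD.comp _)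
      (key D σD hD) (x' ≫ x) f (key2 D σD x' f hf) i' (w' ≫ q) ?_ G hG P' ρ' hP'
    rw [key3 D σD x' f hf]
    exact (hi'.flip.paste_horiz sqs.flip).flip
  · intro D _ _ σD hσD hD XD x' f hf P ρ hP
    have h := hF D (pullback.fst p c) (pullback.snd p c ≫ b₁) sq1
      (σD ≫ wm sqZ) (hσD.comp _) (key D σD hD) (x' ≫ x) f (key2 D σD x' f hf) (G × G)
      (by rw [Nat.card_prod]; exact mul_dvd_mul hG hG) P ρ hP
    rw [key3 D σD x' f hf] at h
    rw [range_eq sqs]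
    have e : (P.hom ≫ x') ⁻¹' cf (jA ≫ pA ≫ σ ≫ b₁) = cf (P.hom ≫ x' ≫ jA ≫ pA ≫ σ ≫ b₁) := by
      ext y
      show (jA ≫ pA ≫ σ ≫ b₁) ((P.hom ≫ x') y) = closedPoint O ↔ (P.hom ≫ x' ≫ jA ≫ pA ≫ σ ≫ b₁) y = closedPoint O
      rw [← Scheme.Hom.comp_apply, Category.assoc]
    rw [e]
    exact h
  · intro D _ _ σD hσD hD XD x' f hf
    have h := hFa D (pullback.fst p c) (pullback.snd p c ≫ b₁) sq1
      (σD ≫ wm sqZ) (hσD.comp _) (key D σD hD) (x' ≫ x) f (key2 D σD x' f hf)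
    rw [key3 D σD x' f hf] at h
    rw [range_eq sqs]
    have e : x' ⁻¹' cf (jA ≫ pA ≫ σ ≫ b₁) = cf (x' ≫ jA ≫ pA ≫ σ ≫ b₁) := by
      ext y
      show (jA ≫ pA ≫ σ ≫ b₁) (x' y) = closedPoint O ↔ (x' ≫ jA ≫ pA ≫ σ ≫ b₁) y = closedPoint O
      rw [← Scheme.Hom.comp_apply]
    rw [e]
    exact h

/-- Essential surjectivity passes from `j` to `j ≫ p`, `p` proper, for a fixed base; from the nodes of the plan. -/
theorem escAt_of (hA : PartA.{u}) (hB : PartB.{u}) (x1 : AicX1.{u}) (x2 : AicX2.{u}) (n : ℕ)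
    {X Z Y S : Scheme.{u}} (j : X ⟶ Z) [IsOpenImmersion j] [QuasiCompact j] (p : Z ⟶ Y) [IsProper p] (b : Y ⟶ S)
    {O : Type u} [CommRing O] [IsLocalRing O] {t : Spec (CommRingCat.of O) ⟶ S}
    (h1 : EScAt n j (p ≫ b) O t) (h2 : FFAt (n * n) j (p ≫ b) O t) (h3 : FaithAt j (p ≫ b) O t) :
    EScAt n (j ≫ p) b O t := by
  intro A _ _ Y₁ c b₁ hb σ hσ hσ' XA x fA hx Xs i q hi G _ _ hG P' ρ' hP'
  have hz : IsPullback (pullback.fst p (σ ≫ c)) (pullback.snd p (σ ≫ c)) p (σ ≫ c) := IsPullback.of_hasPullback _ _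
  let jA : XA ⟶ pullback p (σ ≫ c) := pullback.lift (x ≫ j) fA (by rw [Category.assoc, hx.w])
  have e1 : jA ≫ pullback.snd p (σ ≫ c) = fA := pullback.lift_snd _ _ _
  have e2 : jA ≫ pullback.fst p (σ ≫ c) = x ≫ j := pullback.lift_fst _ _ _
  have hx' : IsPullback x jA j (pullback.fst p (σ ≫ c)) := by
    refine IsPullback.of_bot ?_ e2.symm hz
    rw [e1]
    exact hx
  have hi' : IsPullback i q (jA ≫ pullback.snd p (σ ≫ c) ≫ σ ≫ b₁) (resPt O) := by
    rw [← Category.assoc, e1]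
    exact hi
  have hloc := loc_of_at h1 h2 h3 hb hσ hσ' hz hx' hi' G hG
  have hj : IsOpenImmersion jA := MorphismProperty.of_isPullback hx' inferInstance
  have hq : QuasiCompact jA := MorphismProperty.of_isPullback hx' inferInstance
  have hres := isClosedImmersion_resPt O
  have hw : IsClosedImmersion i := MorphismProperty.of_isPullback hi.flip inferInstance
  have hA1 := hσ.henselian
  have hA2 := hσ.sepClosed
  obtain ⟨T, τ, Q, i1, i2, i3, i4⟩ := x1 jA hj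
  have hT := x2 jA hj τ Q i1 i2 i3 i4
  obtain ⟨I, B, β, F, f1, f2, f3⟩ := hA A hA1 hA2 (pullback.snd p (σ ≫ c)) jA i τ inferInstance hj hq hw hT G
    hloc P' ρ' hP'
  exact hB A hA1 hA2 (pullback.snd p (σ ≫ c)) jA i τ inferInstance hj hq hw hT G P' ρ' hP' I B β F f1 f2 f3

end K260.Es
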