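import Groth.Agent.Pi1.K868.BcDefEs
import Groth.Agent.Flat2E.AIC1
import Mathlib.AlgebraicGeometry.Morphisms.Integral
import Mathlib.AlgebraicGeometry.Morphisms.Proper

/-!
# Essential surjectivity and proper morphisms: plan

The proof that essential surjectivity (`K868.Bc.ESc`) passes from `j : X ⟶ Z` to `j ≫ p`, `p` proper: definitions and
the statements of the independent nodes.

* `AicCov j t`: `t : T ⟶ Z` integral, surjective over `X`, étale `T`-schemes are as disconnected as possible.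
* `TrivDesc`, `H1`: descent of trivial torsors along jointly surjective families; cocycles are coboundaries.
* `Glue`: proper base change for locally constant functions in terms of local solutions.
* `Ext`: extension of locally constant functions from a closed subset for integral morphisms.
* `Sol`, `Del`: local solutions of the extension problem and their comparison.
-/

set_option autoImplicit false
universe u

open CategoryTheory CategoryTheory.Limits AlgebraicGeometry IsLocalRing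

namespace K260.D1

open Groth.Agent.Etrest.StrictLoc K868.Bc

/-! ### Absolutely integrally closed covers -/

/-- `T ⟶ Z` is integral, `X ×_Z T ⟶ X` is surjective and for all the schemes `M` étale over `T`: `X ×_Z M` is dense in
`M`, locally constant functions extend from `X ×_Z M` to `M`, surjective finite étale morphisms to `M` have sections. -/
structure AicCov {X Z T : Scheme.{u}} (j : X ⟶ Z) (t : T ⟶ Z) : Prop where
  integral : IsIntegralHom t
  surj : ∀ x : X, j x ∈ Set.range t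
  dense : ∀ ⦃M : Scheme.{u}⦄ (m : M ⟶ T), Etale m → Dense ((m ≫ t) ⁻¹' Set.range j)
  ext : ∀ ⦃M : Scheme.{u}⦄ (m : M ⟶ T), Etale m → ∀ (E : Type) [Finite E]
    (f : ↥((m ≫ t) ⁻¹' Set.range j) → E), IsLocallyConstant f → ∃ g : M → E, IsLocallyConstant g ∧ ∀ x, g x.1 = f x
  sec : ∀ ⦃M P : Scheme.{u}⦄ (m : M ⟶ T), Etale m → ∀ (π : P ⟶ M), IsFinite π → Etale π → Surjective π →
    ∃ s : M ⟶ P, s ≫ π = 𝟙 M

/-- `T` is covered by spectra of absolutely integrally closed rings whose local rings are domains and in which all the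
subsets of the dense set `Q` are traces of clopen subsets. -/
structure AicData {T : Scheme.{u}} (Q : Set T) : Prop where
  chart : ∀ y : T, ∃ (R : Type u) (_ : CommRing R) (e : Spec (CommRingCat.of R) ⟶ T) (_ : IsOpenImmersion e),
    y ∈ Set.range e ∧ Groth.Agent.Flat2E.AIC1.IsAIC R ∧
    (∀ (q : Ideal R) [q.IsPrime], IsDomain (Localization.AtPrime q)) ∧ Dense (e ⁻¹' Q) ∧
    ∀ D ⊆ e ⁻¹' Q, ∃ C : Set ↥(Spec (CommRingCat.of R)), IsClopen C ∧ C ∩ e ⁻¹' Q = D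

/-- **Node AICX1**: construction. -/
def AicX1 : Prop := ∀ ⦃X Z : Scheme.{u}⦄ (j : X ⟶ Z), IsOpenImmersion j →
  ∃ (T : Scheme.{u}) (t : T ⟶ Z) (Q : Set T), IsIntegralHom t ∧ (∀ x : X, ∃ y ∈ Q, t y = j x) ∧
    (∀ y ∈ Q, t y ∈ Set.range j) ∧ AicData Q

/-- **Node AICX2**: consequences. -/
def AicX2 : Prop := ∀ ⦃X Z T : Scheme.{u}⦄ (j : X ⟶ Z), IsOpenImmersion j → ∀ (t : T ⟶ Z) (Q : Set T),
  IsIntegralHom t → (∀ x : X, ∃ y ∈ Q, t y = j x) → (∀ y ∈ Q, t y ∈ Set.range j) → AicData Q → AicCov j t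

/-- **Node NC**: coverings of the closed fibre of `T` have sections. -/
def NC : Prop := ∀ (R : Type u) [CommRing R] [IsLocalRing R], HenselianLocalRing R →
  ∀ ⦃Z T : Scheme.{u}⦄ (p : Z ⟶ Spec (CommRingCat.of R)), IsProper p → ∀ (t : T ⟶ Z), IsIntegralHom t →
  (∀ ⦃P : Scheme.{u}⦄ (π : P ⟶ T), IsFinite π → Etale π → Surjective π → ∃ s : T ⟶ P, s ≫ π = 𝟙 T) →
  ∀ ⦃Ts : Scheme.{u}⦄ (i : Ts ⟶ T) (q : Ts ⟶ Spec (CommRingCat.of (ResidueField R))),
    IsPullback i q (t ≫ p) (resPt R) →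
  ∀ ⦃P : Scheme.{u}⦄ (π : P ⟶ Ts), IsFinite π → Etale π → Surjective π → ∃ s : Ts ⟶ P, s ≫ π = 𝟙 Ts

/-! ### Extension of functions for integral morphisms -/

/-- **Node EXT**. -/
def Ext : Prop := ∀ ⦃T B : Scheme.{u}⦄ (t : T ⟶ B), IsIntegralHom t → ∀ (F : Set B), IsClosed F →
  ∀ (E : Type) [Finite E] (k : ↥(t ⁻¹' F) → E), IsLocallyConstant k → ∀ y ∈ F,
  ∃ (M : Scheme.{u}) (m : M ⟶ B) (_ : Etale m) (y' : M) (_ : m y' = y) (k' : ↥(pullback t m) → E),
    IsLocallyConstant k' ∧ ∀ (z : ↥(pullback t m)) (hz : pullback.fst t m z ∈ t ⁻¹' F), k' z = k ⟨_, hz⟩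

/-! ### Proper base change for functions -/

/-- **Node GLUE**: `Pr a s` says that `s`, a function on `N ×_Z V`, is a local solution.  If local solutions exist around
the points of the closed fibre and any two of them agree étale locally around the points of the closed fibre, there is
a global function which is a local solution locally around all points. -/
def Glue : Prop := ∀ (R : Type u) [CommRing R] [IsLocalRing R], HenselianLocalRing R → IsSepClosed (ResidueField R) →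
  ∀ ⦃Z N : Scheme.{u}⦄ (p : Z ⟶ Spec (CommRingCat.of R)), IsProper p → ∀ (h : N ⟶ Z), QuasiCompact h →
  QuasiSeparated h → ∀ (E : Type) [Finite E]
  (Pr : ∀ ⦃V : Scheme.{u}⦄ (a : V ⟶ Z), (↥(pullback h a) → E) → Prop)
  (_ : ∀ z : Z, p z = closedPoint R → ∃ (V : Scheme.{u}) (a : V ⟶ Z) (_ : Etale a) (v : V) (_ : a v = z)
    (s : ↥(pullback h a) → E), IsLocallyConstant s ∧ Pr a s)
  (_ : ∀ ⦃V V' : Scheme.{u}⦄ (a : V ⟶ Z) (a' : V' ⟶ Z), Etale a → Etale a' → ∀ (s : ↥(pullback h a) → E)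
    (s' : ↥(pullback h a') → E), IsLocallyConstant s → IsLocallyConstant s' → Pr a s → Pr a' s' →
    ∀ y : ↥(pullback a a'), p (a (pullback.fst a a' y)) = closedPoint R →
    ∃ (M : Scheme.{u}) (m : M ⟶ V) (m' : M ⟶ V') (hm : m ≫ a = m' ≫ a') (_ : Etale (pullback.lift m m' hm))
      (y' : M) (_ : pullback.lift m m' hm y' = y),
      ∀ (K : Type u) [Field K] [IsAlgClosed K] (n : Spec (CommRingCat.of K) ⟶ N) (l : Spec (CommRingCat.of K) ⟶ M)
        (e : n ≫ h = (l ≫ m) ≫ a) (e' : n ≫ h = (l ≫ m') ≫ a'),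
        s (pullback.lift n (l ≫ m) e default) = s' (pullback.lift n (l ≫ m') e' default)),
  ∃ s : N → E, IsLocallyConstant s ∧ ∀ z : Z, ∃ (V : Scheme.{u}) (a : V ⟶ Z) (_ : Etale a) (v : V) (_ : a v = z)
    (r : ↥(pullback h a) → E), IsLocallyConstant r ∧ Pr a r ∧
    ∃ O : V.Opens, v ∈ O ∧ ∀ w : ↥(pullback h a), pullback.snd h a w ∈ O → s (pullback.fst h a w) = r w

/-! ### Descent of trivial torsors -/

/-- A covering family: étale and quasi-compact, or integral. -/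
def CovFam {T : Scheme.{u}} {I : Type} (T' : I → Scheme.{u}) (π : ∀ i, T' i ⟶ T) : Prop :=
  (∀ x : T, ∃ i, x ∈ Set.range (π i)) ∧
    ((∀ i, Etale (π i) ∧ QuasiCompact (π i)) ∨ ∀ i, IsIntegralHom (π i))

/-- A family of locally constant functions satisfying the cocycle condition. -/
structure Cocyc {T : Scheme.{u}} {I : Type} (T' : I → Scheme.{u}) (π : ∀ i, T' i ⟶ T) (G : Type) [Group G]
    (g : ∀ i j, ↥(pullback (π i) (π j)) → G) : Prop where
  lc : ∀ i j, IsLocallyConstant (g i j)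
  cocyc : ∀ (i j k : I) (K : Type u) [Field K] [IsAlgClosed K] (x : Spec (CommRingCat.of K) ⟶ T' i)
    (y : Spec (CommRingCat.of K) ⟶ T' j) (z : Spec (CommRingCat.of K) ⟶ T' k) (h : x ≫ π i = y ≫ π j)
    (h' : y ≫ π j = z ≫ π k),
    g i k (pullback.lift x z (h.trans h') default) =
      g j k (pullback.lift y z h' default) * g i j (pullback.lift x y h default)

/-- **Node DESC**: descent of trivial torsors. -/
def TrivDesc : Prop := ∀ ⦃T : Scheme.{u}⦄ (I : Type) [Finite I] (T' : I → Scheme.{u}) (π : ∀ i, T' i ⟶ T),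
  CovFam T' π → ∀ (G : Type) [Group G] [Finite G] (g : ∀ i j, ↥(pullback (π i) (π j)) → G), Cocyc T' π G g →
  ∃ (Q : FEt.Cat T) (ρ : G →* Aut Q) (_ : SGA1t.IsPrincipal G Q ρ) (τ : ∀ i, T' i ⟶ Q.left),
    (∀ i, τ i ≫ Q.hom = π i) ∧
    ∀ (i j : I) (K : Type u) [Field K] [IsAlgClosed K] (x : Spec (CommRingCat.of K) ⟶ T' i)
      (y : Spec (CommRingCat.of K) ⟶ T' j) (h : x ≫ π i = y ≫ π j),
      y ≫ τ j = x ≫ τ i ≫ (ρ (g i j (pullback.lift x y h default))).hom.left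

/-- **Node H1**: cocycles are coboundaries if the finite étale coverings of `T` have sections. -/
def H1 : Prop := ∀ ⦃T : Scheme.{u}⦄ (I : Type) [Finite I] (T' : I → Scheme.{u}) (π : ∀ i, T' i ⟶ T),
  CovFam T' π → ∀ (G : Type) [Group G] [Finite G] (g : ∀ i j, ↥(pullback (π i) (π j)) → G), Cocyc T' π G g →
  (∀ ⦃P : Scheme.{u}⦄ (π : P ⟶ T), IsFinite π → Etale π → Surjective π → ∃ s : T ⟶ P, s ≫ π = 𝟙 T) →
  ∃ k : ∀ i, T' i → G, (∀ i, IsLocallyConstant (k i)) ∧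
    ∀ (i j : I) (z : ↥(pullback (π i) (π j))),
      g i j z = k j (pullback.snd (π i) (π j) z) * (k i (pullback.fst (π i) (π j) z))⁻¹

/-! ### Local solutions -/

section Sol

variable {G : Type} [Group G] {X Z W : Scheme.{u}} (j : X ⟶ Z) (w : W ⟶ X) (P₀ : FEt.Cat W) (ρ₀ : G →* Aut P₀)

/-- A local solution over `b : B ⟶ Z`: a principal cover of `X ×_Z B` and an equivariant map of its part over `W` to
the given principal cover of `W`. -/
structure Sol {B : Scheme.{u}} (b : B ⟶ Z) where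
  P : FEt.Cat (pullback j b)
  ρ : G →* Aut P
  prin : SGA1t.IsPrincipal G P ρ
  θ : pullback (P.hom ≫ pullback.fst j b) w ⟶ P₀.left
  θ_hom : θ ≫ P₀.hom = pullback.snd (P.hom ≫ pullback.fst j b) w
  θ_act : ∀ (c : G) (K : Type u) [Field K] [IsAlgClosed K] (x : Spec (CommRingCat.of K) ⟶ P.left)
    (y : Spec (CommRingCat.of K) ⟶ W) (h : x ≫ P.hom ≫ pullback.fst j b = y ≫ w)
    (h' : (x ≫ (ρ c).hom.left) ≫ P.hom ≫ pullback.fst j b = y ≫ w),
    pullback.lift (x ≫ (ρ c).hom.left) y h' ≫ θ = pullback.lift x y h ≫ θ ≫ (ρ₀ c).hom.left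

variable {j w P₀ ρ₀}

/-! #### Points -/

/-- The map `X ×_Z M ⟶ X ×_Z B`. -/
noncomputable def kap (j : X ⟶ Z) {B M : Scheme.{u}} {b : B ⟶ Z} {c : M ⟶ Z} (m : M ⟶ B) (h : m ≫ b = c) :
    pullback j c ⟶ pullback j b :=
  pullback.lift (pullback.fst j c) (pullback.snd j c ≫ m) (by rw [Category.assoc, h, pullback.condition])

variable {B B' M A : Scheme.{u}} {b : B ⟶ Z} {b' : B' ⟶ Z} {c : M ⟶ Z}

/-- The base change of the cover along `m : M ⟶ B`; the structure map is `pullback.snd _ _`. -/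
noncomputable abbrev Sol.PM (S : Sol j w P₀ ρ₀ b) (m : M ⟶ B) (h : m ≫ b = c) : Scheme.{u} :=
  pullback S.P.hom (kap j m h)

/-- The point of `S.PM m h` with components `x`, `l`. -/
noncomputable def Sol.kp (S : Sol j w P₀ ρ₀ b) (m : M ⟶ B) (h : m ≫ b = c) (x : A ⟶ S.P.left) (l : A ⟶ M)
    (e : x ≫ S.P.hom ≫ pullback.snd j b = l ≫ m) : A ⟶ S.PM m h :=
  pullback.lift x (pullback.lift (x ≫ S.P.hom ≫ pullback.fst j b) l (by
    rw [Category.assoc, Category.assoc, pullback.condition, ← h, ← Category.assoc l, ← e, Category.assoc,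
      Category.assoc])) (by
    apply pullback.hom_ext
    · rw [kap, Category.assoc, Category.assoc, pullback.lift_fst, pullback.lift_fst]
    · rw [kap, Category.assoc, Category.assoc, pullback.lift_snd, pullback.lift_snd_assoc, e])

theorem Sol.kp_fst (S : Sol j w P₀ ρ₀ b) (m : M ⟶ B) (h : m ≫ b = c) (x : A ⟶ S.P.left) (l : A ⟶ M)
    (e : x ≫ S.P.hom ≫ pullback.snd j b = l ≫ m) : S.kp m h x l e ≫ pullback.fst _ _ = x :=
  pullback.lift_fst _ _ _

theorem Sol.kp_snd_fst (S : Sol j w P₀ ρ₀ b) (m : M ⟶ B) (h : m ≫ b = c) (x : A ⟶ S.P.left) (l : A ⟶ M)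
    (e : x ≫ S.P.hom ≫ pullback.snd j b = l ≫ m) :
    S.kp m h x l e ≫ pullback.snd _ _ ≫ pullback.fst _ _ = x ≫ S.P.hom ≫ pullback.fst j b := by
  rw [kp, pullback.lift_snd_assoc, pullback.lift_fst]

theorem Sol.kp_snd_snd (S : Sol j w P₀ ρ₀ b) (m : M ⟶ B) (h : m ≫ b = c) (x : A ⟶ S.P.left) (l : A ⟶ M)
    (e : x ≫ S.P.hom ≫ pullback.snd j b = l ≫ m) :
    S.kp m h x l e ≫ pullback.snd _ _ ≫ pullback.snd _ _ = l := by
  rw [kp, pullback.lift_snd_assoc, pullback.lift_snd]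

/-- The product of the base changes to `M` of the covers of two local solutions, over `X ×_Z M`. -/
noncomputable abbrev Dom (S : Sol j w P₀ ρ₀ b) (S' : Sol j w P₀ ρ₀ b') (m : M ⟶ B) (h : m ≫ b = c) (m' : M ⟶ B')
    (h' : m' ≫ b' = c) : Scheme.{u} :=
  pullback (pullback.snd S.P.hom (kap j m h)) (pullback.snd S'.P.hom (kap j m' h'))

/-- The point of `Dom S S'` with components `x`, `x'`, `l`. -/
noncomputable def dp (S : Sol j w P₀ ρ₀ b) (S' : Sol j w P₀ ρ₀ b') (m : M ⟶ B) (h : m ≫ b = c) (m' : M ⟶ B')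
    (h' : m' ≫ b' = c) (x : A ⟶ S.P.left) (x' : A ⟶ S'.P.left) (l : A ⟶ M)
    (e : x ≫ S.P.hom ≫ pullback.snd j b = l ≫ m) (e' : x' ≫ S'.P.hom ≫ pullback.snd j b' = l ≫ m')
    (e'' : x ≫ S.P.hom ≫ pullback.fst j b = x' ≫ S'.P.hom ≫ pullback.fst j b') : A ⟶ Dom S S' m h m' h' :=
  pullback.lift (S.kp m h x l e) (S'.kp m' h' x' l e') (by
    apply pullback.hom_ext
    · rw [Category.assoc, Category.assoc, S.kp_snd_fst, S'.kp_snd_fst, e'']
    · rw [Category.assoc, Category.assoc, S.kp_snd_snd, S'.kp_snd_snd])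

/-- A comparison of two local solutions, over `M`: the function `δ` such that `x' = δ (x, x') φ (x)` for an
equivariant isomorphism `φ` of the covers over `M` compatible with the maps `θ`. -/
structure Del (S : Sol j w P₀ ρ₀ b) (S' : Sol j w P₀ ρ₀ b') (m : M ⟶ B) (h : m ≫ b = c) (m' : M ⟶ B')
    (h' : m' ≫ b' = c) (δ : ↥(Dom S S' m h m' h') → G) : Prop where
  lc : IsLocallyConstant δ
  act : ∀ (K : Type u) [Field K] [IsAlgClosed K] (x : Spec (CommRingCat.of K) ⟶ S.P.left)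
    (x' : Spec (CommRingCat.of K) ⟶ S'.P.left) (l : Spec (CommRingCat.of K) ⟶ M)
    (e : x ≫ S.P.hom ≫ pullback.snd j b = l ≫ m) (e' : x' ≫ S'.P.hom ≫ pullback.snd j b' = l ≫ m')
    (e'' : x ≫ S.P.hom ≫ pullback.fst j b = x' ≫ S'.P.hom ≫ pullback.fst j b') (g g' : G)
    (f : (x ≫ (S.ρ g).hom.left) ≫ S.P.hom ≫ pullback.snd j b = l ≫ m)
    (f' : (x' ≫ (S'.ρ g').hom.left) ≫ S'.P.hom ≫ pullback.snd j b' = l ≫ m')
    (f'' : (x ≫ (S.ρ g).hom.left) ≫ S.P.hom ≫ pullback.fst j b =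
      (x' ≫ (S'.ρ g').hom.left) ≫ S'.P.hom ≫ pullback.fst j b'),
    δ (dp S S' m h m' h' _ _ l f f' f'' default) = g' * δ (dp S S' m h m' h' x x' l e e' e'' default) * g⁻¹
  theta : ∀ (K : Type u) [Field K] [IsAlgClosed K] (x : Spec (CommRingCat.of K) ⟶ S.P.left)
    (x' : Spec (CommRingCat.of K) ⟶ S'.P.left) (l : Spec (CommRingCat.of K) ⟶ M)
    (e : x ≫ S.P.hom ≫ pullback.snd j b = l ≫ m) (e' : x' ≫ S'.P.hom ≫ pullback.snd j b' = l ≫ m')
    (e'' : x ≫ S.P.hom ≫ pullback.fst j b = x' ≫ S'.P.hom ≫ pullback.fst j b')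
    (y : Spec (CommRingCat.of K) ⟶ W) (f : x ≫ S.P.hom ≫ pullback.fst j b = y ≫ w)
    (f' : x' ≫ S'.P.hom ≫ pullback.fst j b' = y ≫ w),
    pullback.lift x' y f' ≫ S'.θ =
      pullback.lift x y f ≫ S.θ ≫ (ρ₀ (δ (dp S S' m h m' h' x x' l e e' e'' default))).hom.left

/-- `X ×_Z T ×_Z B`. -/
noncomputable abbrev XT {T : Scheme.{u}} (j : X ⟶ Z) (t : T ⟶ Z) (b : B ⟶ Z) : Scheme.{u} :=
  pullback (pullback.snd j b) (pullback.snd t b)

/-- The point of `XT j t b` with components `x`, `y`, `l`. -/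
noncomputable def xp {T : Scheme.{u}} (j : X ⟶ Z) (t : T ⟶ Z) (b : B ⟶ Z) (x : A ⟶ X) (y : A ⟶ T) (l : A ⟶ B)
    (e : x ≫ j = l ≫ b) (e' : y ≫ t = l ≫ b) : A ⟶ XT j t b :=
  pullback.lift (pullback.lift x l e) (pullback.lift y l e') (by rw [pullback.lift_snd, pullback.lift_snd])

/-- A framed local solution. -/
structure FSol {T : Scheme.{u}} (t : T ⟶ Z) (j : X ⟶ Z) (w : W ⟶ X) (P₀ : FEt.Cat W) (ρ₀ : G →* Aut P₀)
    (b : B ⟶ Z) where
  S : Sol j w P₀ ρ₀ b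
  τ : XT j t b ⟶ S.P.left
  τ_hom : τ ≫ S.P.hom = pullback.fst (pullback.snd j b) (pullback.snd t b)

variable {T : Scheme.{u}} {t : T ⟶ Z}

theorem FSol.xp_τ_snd (F : FSol t j w P₀ ρ₀ b) (x : A ⟶ X) (y : A ⟶ T) (l : A ⟶ B)
    (e : x ≫ j = l ≫ b) (e' : y ≫ t = l ≫ b) :
    (xp j t b x y l e e' ≫ F.τ) ≫ F.S.P.hom ≫ pullback.snd j b = l := by
  rw [Category.assoc, ← Category.assoc F.τ, F.τ_hom, xp, pullback.lift_fst_assoc, pullback.lift_snd]

theorem FSol.xp_τ_fst (F : FSol t j w P₀ ρ₀ b) (x : A ⟶ X) (y : A ⟶ T) (l : A ⟶ B)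
    (e : x ≫ j = l ≫ b) (e' : y ≫ t = l ≫ b) :
    (xp j t b x y l e e' ≫ F.τ) ≫ F.S.P.hom ≫ pullback.fst j b = x := by
  rw [Category.assoc, ← Category.assoc F.τ, F.τ_hom, xp, pullback.lift_fst_assoc, pullback.lift_fst]

/-- Two framed local solutions are coherent at `y`: around `y` there is a comparison mapping `τ` to `τ'`. -/
def CohAt (F : FSol t j w P₀ ρ₀ b) (F' : FSol t j w P₀ ρ₀ b') (y : ↥(pullback b b')) : Prop :=
  ∃ (M : Scheme.{u}) (m : M ⟶ B) (m' : M ⟶ B') (h : m' ≫ b' = m ≫ b) (_ : Etale (pullback.lift m m' h.symm))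
    (y' : M) (_ : pullback.lift m m' h.symm y' = y) (δ : ↥(Dom F.S F'.S m rfl m' h) → G),
    Del F.S F'.S m rfl m' h δ ∧
    ∀ (K : Type u) [Field K] [IsAlgClosed K] (x : Spec (CommRingCat.of K) ⟶ X) (z : Spec (CommRingCat.of K) ⟶ T)
      (l : Spec (CommRingCat.of K) ⟶ M) (e : x ≫ j = (l ≫ m) ≫ b) (e' : z ≫ t = (l ≫ m) ≫ b)
      (f : x ≫ j = (l ≫ m') ≫ b') (f' : z ≫ t = (l ≫ m') ≫ b'),
      δ (dp F.S F'.S m rfl m' h (xp j t b x z (l ≫ m) e e' ≫ F.τ) (xp j t b' x z (l ≫ m') f f' ≫ F'.τ) l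
        (F.xp_τ_snd _ _ _ _ _) (F'.xp_τ_snd _ _ _ _ _) ((F.xp_τ_fst _ _ _ _ _).trans (F'.xp_τ_fst _ _ _ _ _).symm)
        default) = 1

end Sol

/-! ### Local conditions -/

/-- The conditions at the strict localizations of `Z` at the points of the closed fibre. -/
structure Loc {R : Type u} [CommRing R] [IsLocalRing R] {X Z W : Scheme.{u}} (p : Z ⟶ Spec (CommRingCat.of R))
    (j : X ⟶ Z) (w : W ⟶ X) (G : Type) [Group G] : Prop where
  es : ∀ (D : Type u) [CommRing D] [IsLocalRing D] (σ : Spec (CommRingCat.of D) ⟶ Z), IsStrictLoc σ →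
    p (σ (closedPoint D)) = closedPoint R →
    ∀ ⦃XD WD : Scheme.{u}⦄ (x : XD ⟶ X) (f : XD ⟶ Spec (CommRingCat.of D)), IsPullback x f j σ →
    ∀ (i : WD ⟶ XD) (x' : WD ⟶ W), IsPullback i x' x w →
    ∀ (P' : FEt.Cat WD) (ρ' : G →* Aut P'), SGA1t.IsPrincipal G P' ρ' → Comes i G P' ρ'
  ff : ∀ (D : Type u) [CommRing D] [IsLocalRing D] (σ : Spec (CommRingCat.of D) ⟶ Z), IsStrictLoc σ →
    p (σ (closedPoint D)) = closedPoint R →
    ∀ ⦃XD : Scheme.{u}⦄ (x : XD ⟶ X) (f : XD ⟶ Spec (CommRingCat.of D)), IsPullback x f j σ →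
    ∀ (P : FEt.Cat XD) (ρ : G × G →* Aut P), SGA1t.IsPrincipal (G × G) P ρ → ClSurj ((P.hom ≫ x) ⁻¹' Set.range w)
  faith : ∀ (D : Type u) [CommRing D] [IsLocalRing D] (σ : Spec (CommRingCat.of D) ⟶ Z), IsStrictLoc σ →
    p (σ (closedPoint D)) = closedPoint R →
    ∀ ⦃XD : Scheme.{u}⦄ (x : XD ⟶ X) (f : XD ⟶ Spec (CommRingCat.of D)), IsPullback x f j σ →
    ClInj (x ⁻¹' Set.range w)

/-- **Node LOC1**: local solutions exist. -/
def Loc1 : Prop := ∀ (R : Type u) [CommRing R] [IsLocalRing R] ⦃X Z W : Scheme.{u}⦄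
  (p : Z ⟶ Spec (CommRingCat.of R)) (j : X ⟶ Z) (w : W ⟶ X), IsOpenImmersion j → QuasiCompact j →
  IsClosedImmersion w → ∀ (G : Type) [Group G] [Finite G], Loc p j w G → ∀ (P₀ : FEt.Cat W) (ρ₀ : G →* Aut P₀),
  SGA1t.IsPrincipal G P₀ ρ₀ → ∀ z : Z, p z = closedPoint R →
  ∃ (B : Scheme.{u}) (b : B ⟶ Z) (_ : Etale b) (_ : IsAffine B) (v : B) (_ : b v = z), Nonempty (Sol j w P₀ ρ₀ b)

/-- **Node LOC2**: comparisons exist locally. -/
def Loc2 : Prop := ∀ (R : Type u) [CommRing R] [IsLocalRing R] ⦃X Z W : Scheme.{u}⦄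
  (p : Z ⟶ Spec (CommRingCat.of R)) (j : X ⟶ Z) (w : W ⟶ X), IsOpenImmersion j → QuasiCompact j →
  IsClosedImmersion w → ∀ (G : Type) [Group G] [Finite G], Loc p j w G → ∀ (P₀ : FEt.Cat W) (ρ₀ : G →* Aut P₀),
  SGA1t.IsPrincipal G P₀ ρ₀ → ∀ ⦃B B' : Scheme.{u}⦄ (b : B ⟶ Z) (b' : B' ⟶ Z), Etale b → Etale b' →
  ∀ (S : Sol j w P₀ ρ₀ b) (S' : Sol j w P₀ ρ₀ b') (y : ↥(pullback b b')),
  p (b (pullback.fst b b' y)) = closedPoint R →
  ∃ (M : Scheme.{u}) (m : M ⟶ B) (m' : M ⟶ B') (h : m' ≫ b' = m ≫ b) (_ : Etale (pullback.lift m m' h.symm))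
    (y' : M) (_ : pullback.lift m m' h.symm y' = y) (δ : ↥(Dom S S' m rfl m' h) → G), Del S S' m rfl m' h δ

/-- **Node LOC3**: locally constant functions on finite étale covers are locally determined over `W`. -/
def Loc3 : Prop := ∀ (R : Type u) [CommRing R] [IsLocalRing R] ⦃X Z W : Scheme.{u}⦄
  (p : Z ⟶ Spec (CommRingCat.of R)) (j : X ⟶ Z) (w : W ⟶ X), IsOpenImmersion j → QuasiCompact j →
  IsClosedImmersion w → ∀ (G : Type) [Group G] [Finite G], Loc p j w G →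
  ∀ ⦃B : Scheme.{u}⦄ (b : B ⟶ Z), Etale b → ∀ ⦃F : Scheme.{u}⦄ (φ : F ⟶ pullback j b), IsFinite φ → Etale φ →
  ∀ (E : Type) (f f' : F → E), IsLocallyConstant f → IsLocallyConstant f' →
  (∀ z : F, (φ ≫ pullback.fst j b) z ∈ Set.range w → f z = f' z) →
  ∀ y : B, p (b y) = closedPoint R → ∃ O : B.Opens, y ∈ O ∧ ∀ z : F, (φ ≫ pullback.snd j b) z ∈ O → f z = f' z

/-- **Node LOCOF**: the local conditions from `ESc`, `FF`, `Faith`. -/
def LocOf : Prop := ∀ (n : ℕ) ⦃X Z Y S : Scheme.{u}⦄ (j : X ⟶ Z) (p : Z ⟶ Y) (b : Y ⟶ S), ESc n j (p ≫ b) →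
  FF (n * n) j (p ≫ b) → Faith j (p ≫ b) →
  ∀ (O A : Type u) [CommRing O] [IsLocalRing O] [CommRing A] [IsLocalRing A]
    (_ : HenselianLocalRing O) (_ : IsSepClosed (ResidueField O)) (_ : IsUnit (n : O))
    (t : Spec (CommRingCat.of O) ⟶ S) ⦃Y₁ : Scheme.{u}⦄ (c : Y₁ ⟶ Y) (b₁ : Y₁ ⟶ Spec (CommRingCat.of O))
    (_ : IsPullback c b₁ b t) (σ : Spec (CommRingCat.of A) ⟶ Y₁) (_ : IsStrictLoc σ)
    (_ : b₁ (σ (closedPoint A)) = closedPoint O)
    ⦃ZA XA Xs : Scheme.{u}⦄ (z : ZA ⟶ Z) (pA : ZA ⟶ Spec (CommRingCat.of A)) (_ : IsPullback z pA p (σ ≫ c))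
    (x : XA ⟶ X) (jA : XA ⟶ ZA) (_ : IsPullback x jA j z)
    (i : Xs ⟶ XA) (q : Xs ⟶ Spec (CommRingCat.of (ResidueField O)))
    (_ : IsPullback i q (jA ≫ pA ≫ σ ≫ b₁) (resPt O))
    (G : Type) [Group G] [Finite G] (_ : Nat.card G ∣ n), Loc pA jA i G

/-! ### The two halves of the proof -/

/-- **Part A**: coherent families of framed local solutions exist. -/
def PartA : Prop := ∀ (R : Type u) [CommRing R] [IsLocalRing R], HenselianLocalRing R →
  IsSepClosed (ResidueField R) → ∀ ⦃X Z W T : Scheme.{u}⦄ (p : Z ⟶ Spec (CommRingCat.of R)) (j : X ⟶ Z)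
  (w : W ⟶ X) (t : T ⟶ Z), IsProper p → IsOpenImmersion j → QuasiCompact j → IsClosedImmersion w → AicCov j t →
  ∀ (G : Type) [Group G] [Finite G], Loc p j w G → ∀ (P₀ : FEt.Cat W) (ρ₀ : G →* Aut P₀),
  SGA1t.IsPrincipal G P₀ ρ₀ →
  ∃ (I : Type u) (B : I → Scheme.{u}) (b : ∀ i, B i ⟶ Z) (F : ∀ i, FSol t j w P₀ ρ₀ (b i)),
    (∀ i, Etale (b i)) ∧ (∀ z : Z, p z = closedPoint R → ∃ i, z ∈ Set.range (b i)) ∧
    ∀ i i' (y : ↥(pullback (b i) (b i'))), p (b i (pullback.fst (b i) (b i') y)) = closedPoint R → CohAt (F i) (F i') y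

/-- **Part B**: coherent families of framed local solutions give a global solution. -/
def PartB : Prop := ∀ (R : Type u) [CommRing R] [IsLocalRing R], HenselianLocalRing R →
  IsSepClosed (ResidueField R) → ∀ ⦃X Z W T : Scheme.{u}⦄ (p : Z ⟶ Spec (CommRingCat.of R)) (j : X ⟶ Z)
  (w : W ⟶ X) (t : T ⟶ Z), IsProper p → IsOpenImmersion j → QuasiCompact j → IsClosedImmersion w → AicCov j t →
  ∀ (G : Type) [Group G] [Finite G] (P₀ : FEt.Cat W) (ρ₀ : G →* Aut P₀), SGA1t.IsPrincipal G P₀ ρ₀ →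
  ∀ (I : Type u) (B : I → Scheme.{u}) (b : ∀ i, B i ⟶ Z) (F : ∀ i, FSol t j w P₀ ρ₀ (b i)),
    (∀ i, Etale (b i)) → (∀ z : Z, p z = closedPoint R → ∃ i, z ∈ Set.range (b i)) →
    (∀ i i' (y : ↥(pullback (b i) (b i'))), p (b i (pullback.fst (b i) (b i') y)) = closedPoint R → CohAt (F i) (F i') y) →
  Comes w G P₀ ρ₀

end K260.D1
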