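import Groth.Agent.Pi1.K722.Leaf
import Groth.Agent.Pi1.K260.EsDef
import Groth.Agent.Pi1.H382.EBc
import Groth.Agent.EtAcyc.K439.FinSL
import Groth.Agent.S3714

/-!
# Essential surjectivity for principal covers of the complement of a relative snc divisor
-/

set_option autoImplicit false
universe u

open CategoryTheory CategoryTheory.Limits AlgebraicGeometry IsLocalRing

namespace K260.EsLeaf

open K868.Bc Groth.Agent.Etrest.StrictLoc Groth.Agent.Pi1.H382.EBc Groth.Agent.Pi1.H383.PrincBC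
  Groth.Agent.Pi1A.FEtAffine

theorem ebc_id {G : Type*} [Group G] {X : Scheme.{u}} {V : FEt.Cat X} (σ : G →* Aut V) : EBc (𝟙 X) σ σ :=
  ⟨(restrictId X).app V, fun _ => (restrictId X).hom.naturality _⟩

theorem ebc_congr {G : Type*} [Group G] {X Y : Scheme.{u}} {f g : X ⟶ Y} (h : f = g) {W : FEt.Cat Y}
    {V : FEt.Cat X} {ρ : G →* Aut W} {σ : G →* Aut V} (hb : EBc f ρ σ) : EBc g ρ σ := by
  subst h
  exact hb

theorem comes_iff {X' X : Scheme.{u}} (i : X' ⟶ X) (G : Type) [Group G] (P' : FEt.Cat X') (ρ' : G →* Aut P') :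
    Comes i G P' ρ' ↔ ∃ (P : FEt.Cat X) (ρ : G →* Aut P), SGA1t.IsPrincipal G P ρ ∧ EBc i ρ ρ' := Iff.rfl

/-- Transport of `Comes` along isomorphisms. -/
theorem comes_of_iso {U' U X' X : Scheme.{u}} (m : U' ⟶ U) (i : X' ⟶ X) (θ' : U' ⟶ X') (θ : U ⟶ X) [IsIso θ']
    [IsIso θ] (hsq : m ≫ θ = θ' ≫ i) (G : Type) [Group G] [Finite G] (P' : FEt.Cat X') (ρ' : G →* Aut P')
    (h : Comes m G ((FEt.restrict θ').obj P') (bcAction θ' ρ')) : Comes i G P' ρ' := by
  obtain ⟨P, ρ, hP, hρ⟩ := h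
  have e1 : EBc (inv θ') (bcAction θ' ρ') ρ' :=
    EBc.of_comp (q := 𝟙 _) (IsIso.inv_hom_id θ') (EBc.refl θ' ρ') (ebc_id ρ')
  have e2 : EBc (inv θ' ≫ m) ρ ρ' := EBc.comp hρ e1
  have e3 : i ≫ inv θ = inv θ' ≫ m := by
    rw [IsIso.comp_inv_eq, Category.assoc, hsq, IsIso.inv_hom_id_assoc]
  exact ⟨(FEt.restrict (inv θ)).obj P, bcAction (inv θ) ρ, isPrincipal_bc (inv θ) G P ρ hP,
    EBc.of_comp e3 (EBc.refl (inv θ) ρ) e2⟩

/-- The identification of the pullback of an open subset. -/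
theorem exists_theta {A X XA : Scheme.{u}} (g : A ⟶ X) (U : X.Opens) {x : XA ⟶ U} {fA : XA ⟶ A}
    (h : IsPullback x fA U.ι g) (V : A.Opens) (hV : V = g ⁻¹ᵁ U) :
    ∃ θ : (V : Scheme.{u}) ⟶ XA, IsIso θ ∧ θ ≫ fA = V.ι := by
  subst hV
  have h1 := isPullback_morphismRestrict g U
  exact ⟨(h1.isoIsPullback _ _ h).hom, inferInstance, h1.isoIsPullback_hom_snd _ _ h⟩

/-- **Essential surjectivity for principal covers of the complement of a relative snc divisor.** -/
theorem leaf (n : ℕ) {X S : Scheme.{u}} (f : X ⟶ S) {r : ℕ} (φ : Fin r → Γ(X, ⊤)) (h : SGA1t.IsRelSNC f φ) :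
    ESc n (SGA1t.compl φ).ι f := by
  intro O A _ _ _ _ hO hOs hn t Y₁ c b₁ hY σ hσ hcl XA x fA hXA Xs i q hXs G _ _ hG P' ρ' hP'
  let β : O →+* A := (Spec.preimage (σ ≫ b₁)).hom
  have hβ : σ ≫ b₁ = spm β := (Spec.map_preimage _).symm
  have hloc : IsLocalHom β := K722.Leaf.isLocalHom_of_closedPoint β (by
    rw [← hβ, Scheme.Hom.comp_apply, hcl])
  have i1 : IsLocalRing (K439.ClFin.DD β) := K439.ClFin.isLocalRing_DD β
  have hρ : IsStrictLoc (K439.ClFin.rho β hβ) := K439.ClFin.isStrictLoc_rho β hσ hβ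
  let x' : ↥(pullback b₁ (resPt O)) := K439.ClFin.rho β hβ (closedPoint (K439.ClFin.DD β))
  -- the algebra structures
  obtain ⟨a', ha', ha'2⟩ := exists_stalk_hom (K439.ClFin.rho β hβ) x' rfl
  have iq : IsLocalHom (Ideal.Quotient.mk ((maximalIdeal O).map β)) :=
    IsLocalHom.of_surjective _ Ideal.Quotient.mk_surjective
  have hqc : spm (Ideal.Quotient.mk ((maximalIdeal O).map β)) (closedPoint (K439.ClFin.DD β)) = closedPoint A :=
    (isLocalHom_iff_comap_closedPoint _).1 iq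
  have hy : σ (closedPoint A) = (pullback.fst b₁ (resPt O)).base x' := by
    change _ = (pullback.fst b₁ (resPt O)) (K439.ClFin.rho β hβ (closedPoint (K439.ClFin.DD β)))
    rw [← Scheme.Hom.comp_apply, K439.ClFin.rho_fst, Scheme.Hom.comp_apply, hqc]
  obtain ⟨a, ha, ha2⟩ := exists_stalk_hom σ ((pullback.fst b₁ (resPt O)).base x') hy
  let _ : Algebra (Y₁.presheaf.stalk ((pullback.fst b₁ (resPt O)).base x')) A := a.toAlgebra
  let _ : Algebra ((pullback b₁ (resPt O)).presheaf.stalk x') (K439.ClFin.DD β) := a'.toAlgebra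
  have l1 : IsLocalHom (algebraMap (Y₁.presheaf.stalk ((pullback.fst b₁ (resPt O)).base x')) A) := ha
  have l2 : IsLocalHom (algebraMap ((pullback b₁ (resPt O)).presheaf.stalk x') (K439.ClFin.DD β)) := ha'
  have s1 : Hens2.specOf Y₁ ((pullback.fst b₁ (resPt O)).base x') A = σ := ha2
  have s2 : Hens2.specOf (pullback b₁ (resPt O)) x' (K439.ClFin.DD β) = K439.ClFin.rho β hβ := ha'2
  have h1 : Hensel.IsStrictHenselization (Y₁.presheaf.stalk ((pullback.fst b₁ (resPt O)).base x')) A :=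
    Groth.Agent.Sga4h.SLoc.isStrictHenselization _ (by rw [s1]; exact hσ)
  have h2 : Hensel.IsStrictHenselization ((pullback b₁ (resPt O)).presheaf.stalk x') (K439.ClFin.DD β) :=
    Groth.Agent.Sga4h.SLoc.isStrictHenselization _ (by rw [s2]; exact hρ)
  have hm : Spec.map (CommRingCat.ofHom (algebraMap A (K439.ClFin.DD β))) ≫
      Hens2.specOf Y₁ ((pullback.fst b₁ (resPt O)).base x') A =
      Hens2.specOf (pullback b₁ (resPt O)) x' (K439.ClFin.DD β) ≫ pullback.fst b₁ (resPt O) := by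
    rw [s1, s2, K439.ClFin.rho_fst]
  have hRR' : (algebraMap A (K439.ClFin.DD β)).comp
      (algebraMap (Y₁.presheaf.stalk ((pullback.fst b₁ (resPt O)).base x')) A) =
      (algebraMap ((pullback b₁ (resPt O)).presheaf.stalk x') (K439.ClFin.DD β)).comp
        ((pullback.fst b₁ (resPt O)).stalkMap x').hom := by
    have e1 : Spec.map (CommRingCat.ofHom ((algebraMap A (K439.ClFin.DD β)).comp
        (algebraMap (Y₁.presheaf.stalk ((pullback.fst b₁ (resPt O)).base x')) A))) =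
        Spec.map (CommRingCat.ofHom ((algebraMap ((pullback b₁ (resPt O)).presheaf.stalk x')
          (K439.ClFin.DD β)).comp ((pullback.fst b₁ (resPt O)).stalkMap x').hom)) := by
      rw [← cancel_mono (Y₁.fromSpecStalk ((pullback.fst b₁ (resPt O)).base x'))]
      refine Eq.trans ?_ (hm.trans ?_)
      · rw [CommRingCat.ofHom_comp, Spec.map_comp, Category.assoc]
      · rw [CommRingCat.ofHom_comp, Spec.map_comp, CommRingCat.ofHom_hom]
        have e2 := Scheme.SpecMap_stalkMap_fromSpecStalk (pullback.fst b₁ (resPt O)) (x := x')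
        exact (Category.assoc _ _ _).trans ((congrArg (fun k => Spec.map (CommRingCat.ofHom (algebraMap
          ((pullback b₁ (resPt O)).presheaf.stalk x') (K439.ClFin.DD β))) ≫ k) e2.symm).trans
          (Category.assoc _ _ _).symm)
    exact congrArg CommRingCat.Hom.hom (Spec.map_injective e1)
  -- the divisors
  let φ₁ : Fin r → Γ(Y₁, ⊤) := fun i => c.appTop (φ i)
  have hD₁ : SGA1t.IsRelSNC b₁ φ₁ := Groth.Agent.Pi1.H403.RelSNCBase.isRelSNC_of_isPullback hY h
  let φb : Fin r → Γ(Spec (CommRingCat.of A), ⊤) := fun i =>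
    (Hens2.specOf Y₁ ((pullback.fst b₁ (resPt O)).base x') A).appTop (φ₁ i)
  let φb' : Fin r → Γ(Spec (CommRingCat.of (K439.ClFin.DD β)), ⊤) := fun i =>
    (Hens2.specOf (pullback b₁ (resPt O)) x' (K439.ClFin.DD β)).appTop ((pullback.fst b₁ (resPt O)).appTop (φ₁ i))
  have hU : SGA1t.compl φb = (σ ≫ c) ⁻¹ᵁ SGA1t.compl φ := by
    rw [Groth.Agent.Pi1.H403.RelSNCBase.preimage_compl, Scheme.Hom.comp_appTop]
    simp only [φb, s1]
    rfl
  have hU' : SGA1t.compl φb' = (spm (Ideal.Quotient.mk ((maximalIdeal O).map β)) ≫ σ ≫ c) ⁻¹ᵁ SGA1t.compl φ := by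
    rw [← Category.assoc, ← K439.ClFin.rho_fst β hβ, Category.assoc,
      Groth.Agent.Pi1.H403.RelSNCBase.preimage_compl, Scheme.Hom.comp_appTop, Scheme.Hom.comp_appTop]
    simp only [φb', s2]
    rfl
  -- the closed fibre
  have sqD := K439.ClFin.sqD β
  rw [← hβ] at sqD
  let fs : Xs ⟶ Spec (CommRingCat.of (K439.ClFin.DD β)) := sqD.lift (i ≫ fA) q (by
    rw [Category.assoc, hXs.w])
  have hfs1 : fs ≫ spm (Ideal.Quotient.mk ((maximalIdeal O).map β)) = i ≫ fA := sqD.lift_fst _ _ _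
  have hfs2 : fs ≫ spm (K439.ClFin.psi β) = q := sqD.lift_snd _ _ _
  have hXs1 : IsPullback fs i (spm (Ideal.Quotient.mk ((maximalIdeal O).map β))) fA := by
    refine IsPullback.of_right (h₁₂ := spm (K439.ClFin.psi β)) (v₁₃ := resPt O) (h₂₂ := σ ≫ b₁) ?_ hfs1 sqD.flip
    rw [hfs2]
    exact hXs.flip
  have hXs2 : IsPullback (i ≫ x) fs (SGA1t.compl φ).ι
      (spm (Ideal.Quotient.mk ((maximalIdeal O).map β)) ≫ σ ≫ c) := hXs1.flip.paste_horiz hXA
  obtain ⟨θ, hθ1, hθ2⟩ := exists_theta (σ ≫ c) (SGA1t.compl φ) hXA _ hU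
  obtain ⟨θ', hθ'1, hθ'2⟩ := exists_theta _ (SGA1t.compl φ) hXs2 _ hU'
  let m : Spec (CommRingCat.of (K439.ClFin.DD β)) ⟶ Spec (CommRingCat.of A) :=
    Spec.map (CommRingCat.ofHom (algebraMap A (K439.ClFin.DD β)))
  have hle : SGA1t.compl φb' ≤ m ⁻¹ᵁ SGA1t.compl φb := by
    rw [hU', hU]
    exact le_of_eq rfl
  have hsq : m.resLE (SGA1t.compl φb) (SGA1t.compl φb') hle ≫ θ = θ' ≫ i := by
    have : IsOpenImmersion fA := MorphismProperty.of_isPullback (P := @IsOpenImmersion) hXA inferInstance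
    rw [← cancel_mono fA, Category.assoc, hθ2, Scheme.Hom.resLE_comp_ι, Category.assoc, ← hfs1, reassoc_of% hθ'2]
  have hP'' : SGA1t.IsPrincipal G ((FEt.restrict θ').obj P') (bcAction θ' ρ') := isPrincipal_bc θ' G P' ρ' hP'
  have htame : SGA1t.IsRelTame (Hens2.specOf (pullback b₁ (resPt O)) x' (K439.ClFin.DD β) ≫
      pullback.snd b₁ (resPt O)) φb' ((FEt.restrict θ').obj P') := by
    intro Ω _ _ σ' _ y0 _ hdvr w hw hne
    refine Groth.Agent.S3711.isTamelyRamified_of_openImmersion (SGA1t.compl φb').ι G _ _ hP''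
      (pullback.fst (Hens2.specOf (pullback b₁ (resPt O)) x' (K439.ClFin.DD β) ≫ pullback.snd b₁ (resPt O)) σ')
      y0 hdvr w hw hne ?_
    have hGO : IsUnit ((Nat.card G : ℕ) : ResidueField O) := by
      have h1 := (isUnit_of_dvd_unit (Nat.cast_dvd_cast hG) hn).map (residue O)
      rwa [map_natCast] at h1
    let ψ : CommRingCat.of (ResidueField O) ⟶ (pullback (Hens2.specOf (pullback b₁ (resPt O)) x'
        (K439.ClFin.DD β) ≫ pullback.snd b₁ (resPt O)) σ').residueField y0 :=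
      (Scheme.ΓSpecIso (CommRingCat.of (ResidueField O))).inv ≫
        (pullback.fst (Hens2.specOf (pullback b₁ (resPt O)) x' (K439.ClFin.DD β) ≫ pullback.snd b₁ (resPt O)) σ' ≫
          Hens2.specOf (pullback b₁ (resPt O)) x' (K439.ClFin.DD β) ≫ pullback.snd b₁ (resPt O)).appTop ≫
        (pullback (Hens2.specOf (pullback b₁ (resPt O)) x' (K439.ClFin.DD β) ≫
          pullback.snd b₁ (resPt O)) σ').presheaf.germ ⊤ y0 trivial ≫
        (pullback (Hens2.specOf (pullback b₁ (resPt O)) x' (K439.ClFin.DD β) ≫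
          pullback.snd b₁ (resPt O)) σ').residue y0
    have h1 := hGO.map ψ.hom
    rwa [map_natCast] at h1
  obtain ⟨P, ρ, hP, -, e⟩ := Groth.Agent.S3714.result b₁ (resPt O) φ₁ hD₁ x' A (K439.ClFin.DD β) hRR' hm G hle
    ((FEt.restrict θ').obj P') (bcAction θ' ρ') hP'' htame
  exact comes_of_iso (m.resLE (SGA1t.compl φb) (SGA1t.compl φb') hle) i θ' θ hsq G P' ρ' ⟨P, ρ, hP, e⟩

/-! ### Leaves of relative certificates -/

theorem homOfVector_reindex {X T : Scheme.{u}} (f : X ⟶ T) {n m : Type u} (t : n → Γ(X, ⊤)) (i : m → n) :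
    AffineSpace.homOfVector f t ≫ AffineSpace.reindex i T = AffineSpace.homOfVector f (t ∘ i) := by
  apply AffineSpace.hom_ext
  · rw [Category.assoc, AffineSpace.reindex_over, AffineSpace.homOfVector_over, AffineSpace.homOfVector_over]
  · intro j
    rw [Scheme.Hom.comp_appTop, CommRingCat.comp_apply, AffineSpace.reindex_appTop_coord,
      AffineSpace.homOfVector_appTop_coord, AffineSpace.homOfVector_appTop_coord]
    rfl

theorem isIso_reindex {n m : Type u} (i : m ≃ n) (T : Scheme.{u}) : IsIso (AffineSpace.reindex i T) := by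
  have key : ∀ {n m : Type u} (i : m ≃ n), AffineSpace.reindex i T ≫ AffineSpace.reindex i.symm T = 𝟙 _ := by
    intro n m i
    apply AffineSpace.hom_ext
    · rw [Category.assoc, AffineSpace.reindex_over, AffineSpace.reindex_over, Category.id_comp]
    · intro k
      rw [Scheme.Hom.comp_appTop, CommRingCat.comp_apply, AffineSpace.reindex_appTop_coord,
        AffineSpace.reindex_appTop_coord, Equiv.apply_symm_apply]
      simp
  exact ⟨AffineSpace.reindex i.symm T, key i, key i.symm⟩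

/-- Subfamilies of étale coordinates are relative snc divisors. -/
theorem isRelSNC_of_coord {X T : Scheme.{u}} (f : X ⟶ T) {n : Type u} [Finite n] (t : n → Γ(X, ⊤))
    (h : Etale (AffineSpace.homOfVector f t)) {r : ℕ} (e : Fin r → n) (he : Function.Injective e) :
    SGA1t.IsRelSNC f (fun k => t (e k)) := by
  intro x hx
  let ε : Fin (Nat.card n) ≃ n := (Finite.equivFin n).symm
  let ε' : ULift.{u} (Fin (Nat.card n)) ≃ n := Equiv.ulift.trans ε
  have e1 : ∀ {Z : Scheme.{u}} (O : Z.Opens) (t : Γ(Z, ⊤)),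
      O.topIso.inv (Z.presheaf.map (homOfLE le_top).op t) = O.ι.appTop t := by
    intro Z O t
    rw [Scheme.Opens.ι_appTop, Scheme.Opens.topIso_inv]
    have h := Z.presheaf.map_comp (homOfLE (le_top : O ≤ ⊤)).op
      (eqToHom (Scheme.Opens.ι_image_top O)).op
    exact (congrArg (fun k => k t) h).symm
  refine ⟨⊤, trivial, Nat.card n, fun i => (⊤ : X.Opens).ι.appTop (t (ε' i)), fun i => ε.symm (e i.1), ?_, ?_, ?_⟩
  · intro i j hij
    exact Subtype.ext (he (ε.symm.injective hij))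
  · have h1 : AffineSpace.homOfVector ((⊤ : X.Opens).ι ≫ f) (fun i => (⊤ : X.Opens).ι.appTop (t (ε' i))) =
        (⊤ : X.Opens).ι ≫ AffineSpace.homOfVector f t ≫ AffineSpace.reindex ε' T := by
      rw [homOfVector_reindex, AffineSpace.comp_homOfVector]
      rfl
    rw [h1]
    have := isIso_reindex ε' T
    infer_instance
  · intro i
    rw [e1]
    change (⊤ : X.Opens).ι.appTop (t (ε (ε.symm (e i.1)))) = _
    rw [Equiv.apply_symm_apply]

/-- The leaves of relative certificates are complements of relative snc divisors. -/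
theorem exists_isRelSNC {X T : Scheme.{u}} (f : X ⟶ T) (V : X.Opens) (n : Type u) (hn : Finite n) (t : n → Γ(X, ⊤))
    (J : Set n) (h : Etale (AffineSpace.homOfVector f t))
    (hV : ∀ x : X, x ∈ V ↔ ∀ i ∈ J, x ∈ X.basicOpen (t i)) :
    ∃ (r : ℕ) (φ : Fin r → Γ(X, ⊤)), SGA1t.IsRelSNC f φ ∧ V = SGA1t.compl φ := by
  obtain ⟨r, ⟨e⟩⟩ := Finite.exists_equiv_fin J
  refine ⟨r, fun k => t (e.symm k), isRelSNC_of_coord f t h (fun k => (e.symm k : n))
    (fun a b hab => e.symm.injective (Subtype.ext hab)), ?_⟩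
  ext x
  rw [SetLike.mem_coe, SetLike.mem_coe, hV]
  rw [Groth.Agent.Pi1.H415.Local.mem_compl_iff]
  exact ⟨fun h k => h _ (e.symm k).2, fun h i hi => by simpa using h (e ⟨i, hi⟩)⟩

/-- **Essential surjectivity for the leaves of relative certificates.** -/
theorem leaf_tree (m : ℕ) {X T : Scheme.{u}} (f : X ⟶ T) (V : X.Opens) (n : Type u) (hn : Finite n)
    (t : n → Γ(X, ⊤)) (J : Set n) (h : Etale (AffineSpace.homOfVector f t))
    (hV : ∀ x : X, x ∈ V ↔ ∀ i ∈ J, x ∈ X.basicOpen (t i)) : ESc m V.ι f := by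
  obtain ⟨r, φ, hφ, rfl⟩ := exists_isRelSNC f V n hn t J h hV
  exact leaf m f φ hφ

end K260.EsLeaf
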