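import Groth.Agent.Pi1.K260.D1Pts

/-!
# Part A of D1-ES, first steps: functions on `T ×_Z M`, restriction of comparisons
-/

set_option autoImplicit false
universe u

open CategoryTheory CategoryTheory.Limits AlgebraicGeometry IsLocalRing

namespace K260.D1

variable {G : Type} [Group G] {X Z W T : Scheme.{u}} {j : X ⟶ Z} {w : W ⟶ X} {t : T ⟶ Z} {P₀ : FEt.Cat W}
  {ρ₀ : G →* Aut P₀} {B B' M N A A' : Scheme.{u}} {b : B ⟶ Z} {b' : B' ⟶ Z} {c : M ⟶ Z} {c₂ : N ⟶ Z}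

/-! ### General restriction maps -/

section Gen

variable (S : Sol j w P₀ ρ₀ b) (S' : Sol j w P₀ ρ₀ b') {m : M ⟶ B} {h : m ≫ b = c} {m' : M ⟶ B'}
  {h' : m' ≫ b' = c} {m₂ : N ⟶ B} {h₂ : m₂ ≫ b = c₂} {m₂' : N ⟶ B'} {h₂' : m₂' ≫ b' = c₂}

/-- Restriction along `n : N ⟶ M`, general form. -/
noncomputable def dmg (n : N ⟶ M) (k : m₂ = n ≫ m) (k' : m₂' = n ≫ m') :
    Dom S S' m₂ h₂ m₂' h₂' ⟶ Dom S S' m h m' h' :=
  dp S S' m h m' h' (dX S S' _ h₂ _ h₂') (dX' S S' _ h₂ _ h₂') (dM S S' _ h₂ _ h₂' ≫ n)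
    ((d_cond S S' _ h₂ _ h₂').trans ((congrArg (dM S S' _ h₂ _ h₂' ≫ ·) k).trans (Category.assoc _ _ _).symm))
    ((d_cond' S S' _ h₂ _ h₂').trans ((congrArg (dM S S' _ h₂ _ h₂' ≫ ·) k').trans (Category.assoc _ _ _).symm))
    (d_cond'' S S' _ h₂ _ h₂')

theorem dp_dmg (n : N ⟶ M) (k : m₂ = n ≫ m) (k' : m₂' = n ≫ m')
    (x : A ⟶ S.P.left) (x' : A ⟶ S'.P.left) (l : A ⟶ N)
    (e : x ≫ S.P.hom ≫ pullback.snd j b = l ≫ m₂) (e' : x' ≫ S'.P.hom ≫ pullback.snd j b' = l ≫ m₂')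
    (e'' : x ≫ S.P.hom ≫ pullback.fst j b = x' ≫ S'.P.hom ≫ pullback.fst j b')
    (f : x ≫ S.P.hom ≫ pullback.snd j b = (l ≫ n) ≫ m)
    (f' : x' ≫ S'.P.hom ≫ pullback.snd j b' = (l ≫ n) ≫ m') :
    dp S S' m₂ h₂ m₂' h₂' x x' l e e' e'' ≫ dmg S S' (h := h) (h' := h') (h₂ := h₂) (h₂' := h₂') n k k' =
      dp S S' m h m' h' x x' (l ≫ n) f f' e'' := by
  subst k k'
  have h3 : c₂ = n ≫ c := by rw [← h₂, Category.assoc, h]
  subst h3
  exact dp_dmap S S' m h m' h' n h₂ h₂' x x' l e e' e'' f f'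

variable {S S'} {δ : ↥(Dom S S' m h m' h') → G}

theorem Del.comp' (hD : Del S S' m h m' h' δ) (n : N ⟶ M) (k : m₂ = n ≫ m) (k' : m₂' = n ≫ m') :
    Del S S' m₂ h₂ m₂' h₂' (fun a => δ (dmg S S' (h := h) (h' := h') n k k' a)) := by
  subst k k'
  have h3 : c₂ = n ≫ c := by rw [← h₂, Category.assoc, h]
  subst h3
  exact hD.comp n h₂ h₂'

end Gen

theorem xdp_dmg (F : FSol t j w P₀ ρ₀ b) (F' : FSol t j w P₀ ρ₀ b') (m : M ⟶ B) (h : m ≫ b = c)
    (m' : M ⟶ B') (h' : m' ≫ b' = c) (n : N ⟶ M) {m₂ : N ⟶ B} {h₂ : m₂ ≫ b = c₂} {m₂' : N ⟶ B'}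
    {h₂' : m₂' ≫ b' = c₂} (k : m₂ = n ≫ m) (k' : m₂' = n ≫ m') (h3 : n ≫ c = c₂) :
    xdp F F' m₂ h₂ m₂' h₂' ≫ dmg F.S F'.S (h := h) (h' := h') n k k' =
      xmap j t n h3 ≫ xdp F F' m h m' h' := by
  subst k k' h3
  exact xdp_dmap F F' m h m' h' n h₂ h₂'

/-! ### Functions on `T ×_Z M` -/

/-- `T ×_Z N ⟶ T ×_Z M`. -/
noncomputable def tmap (t : T ⟶ Z) (n : N ⟶ M) (h : n ≫ c = c₂) : pullback t c₂ ⟶ pullback t c :=
  pullback.lift (pullback.fst t c₂) (pullback.snd t c₂ ≫ n) (by rw [Category.assoc, h, pullback.condition])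

theorem lift_tmap (n : N ⟶ M) (h : n ≫ c = c₂) (z : A ⟶ T) (l : A ⟶ N) (e : z ≫ t = l ≫ c₂)
    (e' : z ≫ t = (l ≫ n) ≫ c) : pullback.lift z l e ≫ tmap t n h = pullback.lift z (l ≫ n) e' := by
  apply pullback.hom_ext
  · rw [Category.assoc, tmap, pullback.lift_fst, pullback.lift_fst, pullback.lift_fst]
  · rw [Category.assoc, tmap, pullback.lift_snd, pullback.lift_snd, pullback.lift_snd_assoc]

theorem tmap_snd (n : N ⟶ M) (h : n ≫ c = c₂) :
    tmap t n h ≫ pullback.snd t c = pullback.snd t c₂ ≫ n := pullback.lift_snd _ _ _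

theorem tmap_fst (n : N ⟶ M) (h : n ≫ c = c₂) :
    tmap t n h ≫ pullback.fst t c = pullback.fst t c₂ := pullback.lift_fst _ _ _

/-- The projection `X ×_Z T ×_Z M ⟶ T ×_Z M`. -/
noncomputable def xq (j : X ⟶ Z) (t : T ⟶ Z) (c : M ⟶ Z) : XT j t c ⟶ pullback t c := pullback.snd _ _

instance [IsOpenImmersion j] : IsOpenImmersion (xq j t c) :=
  inferInstanceAs (IsOpenImmersion (pullback.snd (pullback.snd j c) (pullback.snd t c)))

theorem xq_fst : xq j t c ≫ pullback.fst t c = xT j t c := rfl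

theorem xq_snd : xq j t c ≫ pullback.snd t c = xB j t c := (xB_eq j t c).symm

theorem xp_xq (x : A ⟶ X) (z : A ⟶ T) (l : A ⟶ M) (e : x ≫ j = l ≫ c) (e' : z ≫ t = l ≫ c) :
    xp j t c x z l e e' ≫ xq j t c = pullback.lift z l e' := xp_snd _ _ _ _ _

theorem xmap_xq (n : N ⟶ M) (h : n ≫ c = c₂) : xmap j t n h ≫ xq j t c = xq j t c₂ ≫ tmap t n h := by
  apply pullback.hom_ext
  · rw [Category.assoc, xq_fst, Category.assoc, tmap_fst, xq_fst, xmap, xp_xT]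
  · rw [Category.assoc, xq_snd, Category.assoc, tmap_snd, ← Category.assoc, xq_snd, xmap, xp_xB]

theorem range_xq (j : X ⟶ Z) (t : T ⟶ Z) (c : M ⟶ Z) :
    Set.range (xq j t c) = (pullback.fst t c ≫ t) ⁻¹' Set.range j := by
  ext a
  constructor
  · rintro ⟨v, rfl⟩
    refine ⟨xX j t c v, ?_⟩
    rw [← Scheme.Hom.comp_apply, ← Scheme.Hom.comp_apply, ← Category.assoc, xq_fst, x_cond, x_cond']
  · rintro ⟨x, hx⟩
    have h1 : j x = c (pullback.snd t c a) := by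
      rw [hx, ← Scheme.Hom.comp_apply, pullback.condition]
    obtain ⟨y, hy1, hy2⟩ := Scheme.Pullback.exists_preimage_pullback x (pullback.snd t c a) h1
    obtain ⟨v, hv1, hv2⟩ := Scheme.Pullback.exists_preimage_pullback (f := pullback.snd j c)
      (g := pullback.snd t c) y a hy2
    exact ⟨v, hv2⟩

/-- Extension of functions from `X ×_Z T ×_Z M` to `T ×_Z M`. -/
theorem exists_ext [IsOpenImmersion j] (hT : AicCov j t) [Etale c] {E : Type} [Finite E] (f : ↥(XT j t c) → E)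
    (hf : IsLocallyConstant f) : ∃ H : ↥(pullback t c) → E, IsLocallyConstant H ∧ ∀ v, H (xq j t c v) = f v := by
  let e : ↥(XT j t c) ≃ₜ ↥((pullback.fst t c ≫ t) ⁻¹' Set.range j) :=
    (xq j t c).isOpenEmbedding.isEmbedding.toHomeomorph.trans (Homeomorph.setCongr (range_xq j t c))
  have he : ∀ v, ((e v : ↥((pullback.fst t c ≫ t) ⁻¹' Set.range j)) : ↥(pullback t c)) = xq j t c v := fun v => rfl
  obtain ⟨H, hH, hH'⟩ := hT.ext (pullback.fst t c) inferInstance E (fun a => f (e.symm a))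
    (hf.comp_continuous e.symm.continuous)
  refine ⟨H, hH, fun v => ?_⟩
  have h1 := hH' (e v)
  rw [he, e.symm_apply_apply] at h1
  exact h1

/-- Uniqueness of the extension, locally on `M`. -/
theorem eq_of_xq (hT : AicCov j t) [Etale c] {E : Type*} {H H' : ↥(pullback t c) → E} (hH : IsLocallyConstant H)
    (hH' : IsLocallyConstant H') (O : M.Opens) (h : ∀ v : ↥(XT j t c), xB j t c v ∈ O → H (xq j t c v) = H' (xq j t c v))
    (a : ↥(pullback t c)) (ha : pullback.snd t c a ∈ O) : H a = H' a := by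
  by_contra hne
  let D : Set ↥(pullback t c) := {a | H a ≠ H' a} ∩ (pullback.snd t c) ⁻¹' O
  have hD : IsOpen D := by
    refine IsOpen.inter ?_ (O.isOpen.preimage (pullback.snd t c).continuous)
    have h1 : IsLocallyConstant (fun a => (H a, H' a)) := hH.prodMk hH'
    exact h1 {p : E × E | p.1 ≠ p.2}
  obtain ⟨a', ha'1, ha'2⟩ := (hT.dense (pullback.fst t c) inferInstance).inter_open_nonempty D hD ⟨a, hne, ha⟩
  rw [← range_xq] at ha'2
  obtain ⟨v, rfl⟩ := ha'2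
  refine ha'1.1 (h v ?_)
  have h1 : pullback.snd t c (xq j t c v) ∈ O := ha'1.2
  rwa [← Scheme.Hom.comp_apply, xq_snd] at h1

end K260.D1
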