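import Groth.Agent.EtAcyc.K548.PrinLocus

/-!
# The difference function of a principal cover

For a principal `G`-cover `P` of `Y` and two `A`-valued points `x`, `y` of `P` over the same point of `Y`:
`dif hP x y h : A → G` is the locally constant function with `y = dif x y . x`.
-/

set_option autoImplicit false
universe u

open CategoryTheory CategoryTheory.Limits AlgebraicGeometry

namespace K260.Dif

open K548.PrinLocus Groth.Agent.Pi1A.FEtAffine Groth.Agent.Pi1.H416.PrincDesc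

variable {Y : Scheme.{u}} {G : Type} [Group G] {P : FEt.Cat Y} {ρ : G →* Aut P}

theorem act_hom (ρ : G →* Aut P) (c : G) : (ρ c).hom.left ≫ P.hom = P.hom := hom_w (ρ c).hom

@[reassoc]
theorem act_act (ρ : G →* Aut P) (c d : G) : (ρ c).hom.left ≫ (ρ d).hom.left = (ρ (d * c)).hom.left := by
  rw [map_mul]
  rfl

theorem act_one (ρ : G →* Aut P) : (ρ 1).hom.left = 𝟙 P.left := by
  rw [map_one]
  rfl

theorem isFinite_hom (P : FEt.Cat Y) : IsFinite P.hom := P.prop.1

theorem etale_hom (P : FEt.Cat Y) : Etale P.hom := P.prop.2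

/-- Points of the fibre square lie in exactly one graph. -/
theorem existsUnique_gr (hP : SGA1t.IsPrincipal G P ρ) (z : ↥(pullback P.hom P.hom)) :
    ∃! c : G, z ∈ Set.range (gr G P ρ c) := by
  obtain ⟨Ω, _, _, σ, hσ⟩ := exists_geomPt _ z
  have hst : (σ ≫ pullback.snd P.hom P.hom) ≫ P.hom = (σ ≫ pullback.fst P.hom P.hom) ≫ P.hom := by
    rw [Category.assoc, Category.assoc, pullback.condition]
  let s : FEt.fiberObj ((σ ≫ pullback.fst P.hom P.hom) ≫ P.hom) P := ⟨σ ≫ pullback.fst P.hom P.hom, rfl⟩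
  let t : FEt.fiberObj ((σ ≫ pullback.fst P.hom P.hom) ≫ P.hom) P := ⟨σ ≫ pullback.snd P.hom P.hom, hst⟩
  have h1 : pullback.lift s.1 t.1 (s.2.trans t.2.symm) = σ := by
    apply pullback.hom_ext
    · rw [pullback.lift_fst]
    · rw [pullback.lift_snd]
  have h2 : ∀ c : G, z ∈ Set.range (gr G P ρ c) ↔ (FEt.fiber _).map (ρ c).hom s = t := by
    intro c
    rw [← mem_gr_iff G P ρ _ s t c default, h1, hσ]
  obtain ⟨c, hc, hu⟩ := hP.2 Ω _ s t
  exact ⟨c, (h2 c).2 hc, fun d hd => hu d ((h2 d).1 hd)⟩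

/-- The difference function on the fibre square. -/
noncomputable def df (hP : SGA1t.IsPrincipal G P ρ) (z : ↥(pullback P.hom P.hom)) : G :=
  (existsUnique_gr hP z).choose

theorem df_eq_iff (hP : SGA1t.IsPrincipal G P ρ) (z : ↥(pullback P.hom P.hom)) (c : G) :
    df hP z = c ↔ z ∈ Set.range (gr G P ρ c) := by
  constructor
  · rintro rfl
    exact (existsUnique_gr hP z).choose_spec.1
  · intro h
    exact ((existsUnique_gr hP z).choose_spec.2 c h).symm

theorem isLocallyConstant_df (hP : SGA1t.IsPrincipal G P ρ) : IsLocallyConstant (df hP) := by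
  rw [IsLocallyConstant.iff_isOpen_fiber]
  intro c
  have h1 : df hP ⁻¹' {c} = Set.range (gr G P ρ c) := by
    ext z
    exact df_eq_iff hP z c
  rw [h1]
  exact (isClopen_gr G P ρ c).isOpen

/-- The difference of two points. -/
noncomputable def dif (hP : SGA1t.IsPrincipal G P ρ) {A : Scheme.{u}} (x y : A ⟶ P.left)
    (h : x ≫ P.hom = y ≫ P.hom) : A → G := fun a => df hP (pullback.lift x y h a)

theorem isLocallyConstant_dif (hP : SGA1t.IsPrincipal G P ρ) {A : Scheme.{u}} (x y : A ⟶ P.left)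
    (h : x ≫ P.hom = y ≫ P.hom) : IsLocallyConstant (dif hP x y h) :=
  (isLocallyConstant_df hP).comp_continuous (pullback.lift x y h).continuous

theorem dif_comp (hP : SGA1t.IsPrincipal G P ρ) {A A' : Scheme.{u}} (k : A' ⟶ A) (x y : A ⟶ P.left)
    (h : x ≫ P.hom = y ≫ P.hom) (h' : (k ≫ x) ≫ P.hom = (k ≫ y) ≫ P.hom) (a : A') :
    dif hP (k ≫ x) (k ≫ y) h' a = dif hP x y h (k a) := by
  have h1 : pullback.lift (k ≫ x) (k ≫ y) h' = k ≫ pullback.lift x y h := by
    apply pullback.hom_ext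
    · rw [Category.assoc, pullback.lift_fst, pullback.lift_fst]
    · rw [Category.assoc, pullback.lift_snd, pullback.lift_snd]
  rw [dif, dif, ← Scheme.Hom.comp_apply, h1]

theorem dif_congr (hP : SGA1t.IsPrincipal G P ρ) {A : Scheme.{u}} {x y x' y' : A ⟶ P.left}
    (hx : x = x') (hy : y = y') (h : x ≫ P.hom = y ≫ P.hom) (h' : x' ≫ P.hom = y' ≫ P.hom) (a : A) :
    dif hP x y h a = dif hP x' y' h' a := by
  subst hx hy
  rfl

/-- If the difference is constant the two points are related by the group element. -/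
theorem eq_act_of_dif (hP : SGA1t.IsPrincipal G P ρ) {A : Scheme.{u}} (x y : A ⟶ P.left)
    (h : x ≫ P.hom = y ≫ P.hom) (c : G) (hc : ∀ a, dif hP x y h a = c) : y = x ≫ (ρ c).hom.left := by
  have h2 : Etale P.hom := P.prop.2
  have h1 : IsOpenImmersion (gr G P ρ c) := isOpenImmersion_graph _ _ _
  have hr : Set.range (pullback.lift x y h) ⊆ Set.range (gr G P ρ c) := by
    rintro _ ⟨a, rfl⟩
    exact (df_eq_iff hP _ c).1 (hc a)
  have e1 := IsOpenImmersion.lift_fac (gr G P ρ c) (pullback.lift x y h) hr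
  have e2 : IsOpenImmersion.lift (gr G P ρ c) (pullback.lift x y h) hr = x := by
    have h3 := congrArg (· ≫ pullback.fst P.hom P.hom) e1
    simp only [Category.assoc, pullback.lift_fst, gr, graph_fst, Category.comp_id] at h3
    exact h3
  have h4 := congrArg (· ≫ pullback.snd P.hom P.hom) e1
  simp only [Category.assoc, pullback.lift_snd, gr, graph_snd] at h4
  rw [← h4]
  exact congrArg (fun t => t ≫ (ρ c).hom.left) e2

theorem dif_eq_of_act (hP : SGA1t.IsPrincipal G P ρ) {A : Scheme.{u}} (x y : A ⟶ P.left)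
    (h : x ≫ P.hom = y ≫ P.hom) (c : G) (hc : y = x ≫ (ρ c).hom.left) (a : A) : dif hP x y h a = c := by
  rw [dif, df_eq_iff]
  subst hc
  have h1 : pullback.lift x (x ≫ (ρ c).hom.left) h = x ≫ gr G P ρ c := by
    apply pullback.hom_ext
    · rw [pullback.lift_fst, Category.assoc, gr, graph_fst, Category.comp_id]
    · rw [pullback.lift_snd, Category.assoc, gr, graph_snd]
  rw [h1, Scheme.Hom.comp_apply]
  exact ⟨_, rfl⟩

section Pt

variable {K : Type u} [Field K]

/-- Field valued points. -/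
theorem eq_act (hP : SGA1t.IsPrincipal G P ρ) (x y : Spec (CommRingCat.of K) ⟶ P.left)
    (h : x ≫ P.hom = y ≫ P.hom) : y = x ≫ (ρ (dif hP x y h default)).hom.left :=
  eq_act_of_dif hP x y h _ fun a => congrArg (dif hP x y h) (Subsingleton.elim _ _)

end Pt

/-- A field valued point over a given point. -/
theorem exists_pt {A : Scheme.{u}} (a : A) : ∃ (K : Type u) (_ : Field K) (_ : IsAlgClosed K)
    (κ : Spec (CommRingCat.of K) ⟶ A), κ default = a := by
  obtain ⟨K, _, _, κ, hκ⟩ := exists_geomPt A a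
  exact ⟨K, inferInstance, inferInstance, κ, hκ _⟩

theorem dif_pt (hP : SGA1t.IsPrincipal G P ρ) {A : Scheme.{u}} (x y : A ⟶ P.left)
    (h : x ≫ P.hom = y ≫ P.hom) {K : Type u} [Field K] (κ : Spec (CommRingCat.of K) ⟶ A)
    (h' : (κ ≫ x) ≫ P.hom = (κ ≫ y) ≫ P.hom) :
    dif hP x y h (κ default) = dif hP (κ ≫ x) (κ ≫ y) h' default := (dif_comp hP κ x y h h' default).symm

/-- The action is free. -/
theorem act_injective (hP : SGA1t.IsPrincipal G P ρ) {K : Type u} [Field K] (x : Spec (CommRingCat.of K) ⟶ P.left)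
    {c d : G} (h : x ≫ (ρ c).hom.left = x ≫ (ρ d).hom.left) : c = d := by
  have h0 : x ≫ P.hom = (x ≫ (ρ c).hom.left) ≫ P.hom := by rw [Category.assoc, act_hom]
  rw [← dif_eq_of_act hP x _ h0 c rfl default]
  exact dif_eq_of_act hP x _ h0 d h default

theorem dif_trans (hP : SGA1t.IsPrincipal G P ρ) {A : Scheme.{u}} (x y z : A ⟶ P.left)
    (h : x ≫ P.hom = y ≫ P.hom) (h' : y ≫ P.hom = z ≫ P.hom) (a : A) :
    dif hP x z (h.trans h') a = dif hP y z h' a * dif hP x y h a := by
  obtain ⟨K, _, _, κ, rfl⟩ := exists_pt a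
  have e : ∀ {s t : A ⟶ P.left}, s ≫ P.hom = t ≫ P.hom → (κ ≫ s) ≫ P.hom = (κ ≫ t) ≫ P.hom := by
    intro s t hst
    rw [Category.assoc, Category.assoc, hst]
  rw [dif_pt hP x z _ κ (e (h.trans h')), dif_pt hP y z h' κ (e h'), dif_pt hP x y h κ (e h)]
  refine dif_eq_of_act hP _ _ _ _ ?_ _
  rw [← act_act, ← Category.assoc, ← eq_act hP (κ ≫ x) (κ ≫ y) (e h), ← eq_act hP (κ ≫ y) (κ ≫ z) (e h')]

theorem dif_self (hP : SGA1t.IsPrincipal G P ρ) {A : Scheme.{u}} (x : A ⟶ P.left)
    (h : x ≫ P.hom = x ≫ P.hom) (a : A) : dif hP x x h a = 1 :=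
  dif_eq_of_act hP x x h 1 (by rw [act_one, Category.comp_id]) a

theorem dif_symm (hP : SGA1t.IsPrincipal G P ρ) {A : Scheme.{u}} (x y : A ⟶ P.left)
    (h : x ≫ P.hom = y ≫ P.hom) (h' : y ≫ P.hom = x ≫ P.hom) (a : A) :
    dif hP y x h' a = (dif hP x y h a)⁻¹ := by
  have h1 := dif_trans hP x y x h h' a
  rw [dif_self] at h1
  exact eq_inv_of_mul_eq_one_left h1.symm

theorem dif_act (hP : SGA1t.IsPrincipal G P ρ) {A : Scheme.{u}} (x y : A ⟶ P.left)
    (h : x ≫ P.hom = y ≫ P.hom) (c d : G)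
    (h' : (x ≫ (ρ c).hom.left) ≫ P.hom = (y ≫ (ρ d).hom.left) ≫ P.hom) (a : A) :
    dif hP (x ≫ (ρ c).hom.left) (y ≫ (ρ d).hom.left) h' a = d * dif hP x y h a * c⁻¹ := by
  have e1 : (x ≫ (ρ c).hom.left) ≫ P.hom = x ≫ P.hom := by rw [Category.assoc, act_hom]
  have e2 : y ≫ P.hom = (y ≫ (ρ d).hom.left) ≫ P.hom := by rw [Category.assoc, act_hom]
  rw [dif_trans hP _ y _ (e1.trans h) e2, dif_trans hP _ x _ e1 h, dif_eq_of_act hP y _ e2 d rfl,
    dif_symm hP x (x ≫ (ρ c).hom.left) e1.symm e1, dif_eq_of_act hP x _ e1.symm c rfl, mul_assoc]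

/-- Points with trivial difference are equal. -/
theorem eq_of_dif (hP : SGA1t.IsPrincipal G P ρ) {A : Scheme.{u}} (x y : A ⟶ P.left)
    (h : x ≫ P.hom = y ≫ P.hom) (hc : ∀ a, dif hP x y h a = 1) : x = y := by
  rw [eq_act_of_dif hP x y h 1 hc, act_one, Category.comp_id]

/-- Morphisms on the members of a partition into open subsets glue. -/
theorem exists_glue_of_disjoint {A V : Scheme.{u}} {ι : Type} (D : ι → A.Opens)
    (hD : ∀ i j, i ≠ j → Disjoint (D i) (D j)) (hc : ∀ y : A, ∃ i, y ∈ D i)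
    (κ : ∀ i, (D i).toScheme ⟶ V) : ∃ σ : A ⟶ V, ∀ i, (D i).ι ≫ σ = κ i := by
  have hcov : TopologicalSpace.IsOpenCover D := by
    rw [TopologicalSpace.IsOpenCover, eq_top_iff]
    intro y _
    obtain ⟨i, hi⟩ := hc y
    exact TopologicalSpace.Opens.mem_iSup.2 ⟨i, hi⟩
  refine ⟨(A.openCoverOfIsOpenCover D hcov).glueMorphisms κ ?_, fun i =>
    (A.openCoverOfIsOpenCover D hcov).ι_glueMorphisms κ _ i⟩
  intro i j
  by_cases hij : i = j
  · subst hij
    have : Mono ((A.openCoverOfIsOpenCover D hcov).f i) :=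
      inferInstanceAs (Mono (D i).ι)
    congr 1
    rw [← cancel_mono ((A.openCoverOfIsOpenCover D hcov).f i), pullback.condition]
  · have : IsEmpty ↥(pullback ((A.openCoverOfIsOpenCover D hcov).f i)
        ((A.openCoverOfIsOpenCover D hcov).f j)) := by
      constructor
      intro y
      have h1 : (pullback.fst ((A.openCoverOfIsOpenCover D hcov).f i)
        ((A.openCoverOfIsOpenCover D hcov).f j) ≫ (D i).ι) y ∈ D i :=
        (pullback.fst ((A.openCoverOfIsOpenCover D hcov).f i)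
          ((A.openCoverOfIsOpenCover D hcov).f j) y).2
      have h2 : (pullback.fst ((A.openCoverOfIsOpenCover D hcov).f i)
        ((A.openCoverOfIsOpenCover D hcov).f j) ≫ (D i).ι) y ∈ D j := by
        have := (pullback.snd ((A.openCoverOfIsOpenCover D hcov).f i)
          ((A.openCoverOfIsOpenCover D hcov).f j) y).2
        have h3 : pullback.fst ((A.openCoverOfIsOpenCover D hcov).f i)
          ((A.openCoverOfIsOpenCover D hcov).f j) ≫ (D i).ι = pullback.snd _ _ ≫ (D j).ι :=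
          pullback.condition
        rw [h3]
        exact this
      exact Set.disjoint_left.1 (by
        have := hD i j hij
        rwa [← TopologicalSpace.Opens.coe_disjoint] at this) h1 h2
    exact isInitialOfIsEmpty.hom_ext _ _

theorem hom_ext_of_cover {A V : Scheme.{u}} {ι : Type} (D : ι → A.Opens) (hc : ∀ y : A, ∃ i, y ∈ D i)
    {f g : A ⟶ V} (h : ∀ i, (D i).ι ≫ f = (D i).ι ≫ g) : f = g := by
  have hcov : TopologicalSpace.IsOpenCover D := by
    rw [TopologicalSpace.IsOpenCover, eq_top_iff]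
    intro y _
    obtain ⟨i, hi⟩ := hc y
    exact TopologicalSpace.Opens.mem_iSup.2 ⟨i, hi⟩
  exact (A.openCoverOfIsOpenCover D hcov).hom_ext f g h

/-- Twisting a point by a locally constant function. -/
theorem exists_twist (hP : SGA1t.IsPrincipal G P ρ) {A : Scheme.{u}} (x : A ⟶ P.left) (γ : A → G)
    (hγ : IsLocallyConstant γ) :
    ∃ (y : A ⟶ P.left) (h : x ≫ P.hom = y ≫ P.hom), ∀ a, dif hP x y h a = γ a := by
  let D : G → A.Opens := fun c => ⟨γ ⁻¹' {c}, hγ.isOpen_fiber c⟩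
  have hc : ∀ a : A, ∃ c, a ∈ D c := fun a => ⟨γ a, rfl⟩
  obtain ⟨y, hy⟩ := exists_glue_of_disjoint D (fun c d hcd => by
    rw [← TopologicalSpace.Opens.coe_disjoint, Set.disjoint_left]
    intro a h1 h2
    exact hcd (h1.symm.trans h2)) hc (fun c => (D c).ι ≫ x ≫ (ρ c).hom.left)
  have h : x ≫ P.hom = y ≫ P.hom := by
    refine hom_ext_of_cover D hc fun c => ?_
    rw [← Category.assoc (D c).ι y, hy, Category.assoc, Category.assoc, act_hom]
  refine ⟨y, h, fun a => ?_⟩
  have h1 := dif_comp hP (D (γ a)).ι x y h (by rw [Category.assoc, Category.assoc, h]) ⟨a, rfl⟩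
  refine h1.symm.trans ?_
  refine dif_eq_of_act hP _ _ _ _ ?_ _
  rw [hy, Category.assoc]

/-- Geometric points lift. -/
theorem exists_lift (hP : SGA1t.IsPrincipal G P ρ) {K : Type u} [Field K] [IsSepClosed K]
    (y : Spec (CommRingCat.of K) ⟶ Y) : ∃ x : Spec (CommRingCat.of K) ⟶ P.left, x ≫ P.hom = y := by
  have h2 : Etale P.hom := P.prop.2
  obtain ⟨x, hx⟩ := hP.1 (y default)
  obtain ⟨l, hl, -⟩ := Scheme.exists_fac_of_etale_of_isSepClosed P.hom y x hx
  exact ⟨l, hl⟩

end K260.Dif
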