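import Groth.Agent.Pi1.K260.D1Plan
import Groth.Agent.Pi1.K260.Dif
import Groth.Agent.Sga1.EtaleSection

/-!
# Node AICX2, second half: extension of functions and sections of finite étale covers

From the fact that étale schemes over `T` are locally isomorphic to open subschemes of `T`.
-/

set_option autoImplicit false
universe u

open CategoryTheory CategoryTheory.Limits AlgebraicGeometry IsLocalRing

namespace K260.AicX2

open K260.D1 Topology

/-- Local extension from a dense subset gives global extension. -/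
theorem exists_extend_top {M : Type*} [TopologicalSpace M] {Q : Set M} (hQ : Dense Q) {E : Type*} (f : ↥Q → E)
    (h : ∀ y : M, ∃ (e : E) (O : Set M), IsOpen O ∧ y ∈ O ∧ ∀ q : ↥Q, q.1 ∈ O → f q = e) :
    ∃ g : M → E, IsLocallyConstant g ∧ ∀ q : ↥Q, g q.1 = f q := by
  choose e O hO hy hf using h
  refine ⟨e, ?_, fun q => (hf q.1 q (hy q.1)).symm⟩
  rw [IsLocallyConstant.iff_exists_open]
  intro y
  refine ⟨O y, hO y, hy y, fun y' hy' => ?_⟩
  obtain ⟨q, hq1, hq2⟩ := hQ.inter_open_nonempty (O y ∩ O y') ((hO y).inter (hO y')) ⟨y', hy', hy y'⟩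
  rw [← hf y' ⟨q, hq2⟩ hq1.2, hf y ⟨q, hq2⟩ hq1.1]

/-- Étale schemes over `T` are locally isomorphic to open subschemes of `T`. -/
def LocIm (T : Scheme.{u}) : Prop := ∀ ⦃M : Scheme.{u}⦄ (m : M ⟶ T), Etale m →
  ∀ y : M, ∃ O : M.Opens, y ∈ O ∧ IsOpenImmersion (O.ι ≫ m)

variable {T : Scheme.{u}} {Q : Set T}

theorem dense_Q (hQ : AicData Q) : Dense Q := by
  intro y
  rw [mem_closure_iff]
  intro U hU hy
  obtain ⟨R, _, e, he, ⟨x, hx⟩, -, -, hd, -⟩ := hQ.chart y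
  obtain ⟨q, hq1, hq2⟩ := hd.inter_open_nonempty (e ⁻¹' U) (hU.preimage e.continuous) ⟨x, by
    show e x ∈ U
    rw [hx]
    exact hy⟩
  exact ⟨e q, hq1, hq2⟩

theorem dense_preimage (hQ : AicData Q) {M : Scheme.{u}} (m : M ⟶ T) [Etale m] : Dense (m ⁻¹' Q) :=
  (dense_Q hQ).preimage m.isOpenMap

/-- Extension of functions. -/
theorem exists_extend (hQ : AicData Q) (hT : LocIm T) {M : Scheme.{u}} (m : M ⟶ T) [Etale m] {E : Type*} [Finite E]
    (f : ↥(m ⁻¹' Q) → E) : ∃ g : M → E, IsLocallyConstant g ∧ ∀ q : ↥(m ⁻¹' Q), g q.1 = f q := by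
  refine exists_extend_top (dense_preimage hQ m) f fun y => ?_
  obtain ⟨O, hyO, hO⟩ := hT m inferInstance y
  obtain ⟨R, _, e, he, ⟨x, hx⟩, -, -, hd, hC⟩ := hQ.chart (m y)
  have hinj : ∀ a ∈ O, ∀ a' ∈ O, m a = m a' → a = a' := by
    intro a ha a' ha' h
    have h1 : (O.ι ≫ m) ⟨a, ha⟩ = (O.ι ≫ m) ⟨a', ha'⟩ := h
    exact congrArg Subtype.val ((O.ι ≫ m).isOpenEmbedding.injective h1)
  let D : E → Set ↥(Spec (CommRingCat.of R)) := fun c =>
    {q | ∃ q' : ↥(m ⁻¹' Q), q'.1 ∈ O ∧ m q'.1 = e q ∧ f q' = c}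
  have hD : ∀ c, D c ⊆ e ⁻¹' Q := by
    rintro c q ⟨q', -, h1, -⟩
    show e q ∈ Q
    rw [← h1]
    exact q'.2
  choose C hC1 hC2 using fun c => hC (D c) (hD c)
  have hO2 : IsOpen (e ⁻¹' (m '' (O : Set M))) := (m.isOpenMap _ O.isOpen).preimage e.continuous
  have hx2 : x ∈ e ⁻¹' (m '' (O : Set M)) := ⟨y, hyO, hx.symm⟩
  have hun : x ∈ ⋃ c, C c := by
    have h1 : IsClosed (⋃ c, C c) := isClosed_iUnion_of_finite fun c => (hC1 c).isClosed
    by_contra hne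
    obtain ⟨q, hq1, hq2⟩ := hd.inter_open_nonempty ((⋃ c, C c)ᶜ ∩ e ⁻¹' (m '' (O : Set M)))
      (h1.isOpen_compl.inter hO2) ⟨x, hne, hx2⟩
    obtain ⟨q', hq', hqq⟩ := hq1.2
    refine hq1.1 (Set.mem_iUnion.2 ⟨f ⟨q', ?_⟩, ?_⟩)
    · show m q' ∈ Q
      rw [hqq]
      exact hq2
    · have h2 : q ∈ D (f ⟨q', by show m q' ∈ Q; rw [hqq]; exact hq2⟩) := ⟨⟨q', _⟩, hq', hqq, rfl⟩
      rw [← hC2] at h2
      exact h2.1
  obtain ⟨c, hc⟩ := Set.mem_iUnion.1 hun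
  refine ⟨c, (O : Set M) ∩ m ⁻¹' (e '' C c), O.isOpen.inter
    ((e.isOpenEmbedding.isOpenMap _ (hC1 c).isOpen).preimage m.continuous), ⟨hyO, x, hc, hx⟩, ?_⟩
  rintro q ⟨hq1, q₁, hq2, hq3⟩
  have h2 : q₁ ∈ D c := by
    rw [← hC2]
    exact ⟨hq2, by show e q₁ ∈ Q; rw [hq3]; exact q.2⟩
  obtain ⟨q', h3, h4, h5⟩ := h2
  have h6 : q' = q := Subtype.ext (hinj _ h3 _ hq1 (by rw [h4, hq3]))
  rw [← h6, h5]

/-- Sections of finite étale covers. -/
theorem exists_section (hQ : AicData Q) (hT : LocIm T) {M P : Scheme.{u}} (m : M ⟶ T) [Etale m] (π : P ⟶ M)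
    [IsFinite π] [Etale π] [Surjective π] : ∃ s : M ⟶ P, s ≫ π = 𝟙 M := by
  classical
  choose s hs using fun q : M => π.surjective q
  obtain ⟨g, hg, hg'⟩ := exists_extend hQ hT (π ≫ m) (E := Prop) (fun q => q.1 = s (π q.1))
  let C : P.Opens := ⟨g ⁻¹' {True}, hg.isOpen_fiber True⟩
  have hCc : IsClosed (C : Set P) := by
    have h1 : (C : Set P) = (g ⁻¹' {False})ᶜ := by
      ext y
      show g y = True ↔ ¬ g y = False
      by_cases h : g y <;> simp [h]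
    rw [h1]
    exact (hg.isOpen_fiber False).isClosed_compl
  have hcl : IsClosedImmersion C.ι := by
    have h1 : IsClosed (Set.range C.ι) := by
      rw [Scheme.Opens.range_ι]
      exact hCc
    exact IsClosedImmersion.of_isPreimmersion _ h1
  have hfin : IsFinite (C.ι ≫ π) := inferInstance
  have het : Etale (C.ι ≫ π) := inferInstance
  have hui : UniversallyInjective (C.ι ≫ π) := by
    rw [UniversallyInjective.iff_diagonal]
    by_contra hns
    have hopen : IsOpen (Set.range (pullback.diagonal (C.ι ≫ π)))ᶜ :=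
      (pullback.diagonal (C.ι ≫ π)).isClosedEmbedding.isClosed_range.isOpen_compl
    obtain ⟨y₀, hy₀⟩ : ∃ y, y ∉ Set.range (pullback.diagonal (C.ι ≫ π)) := by
      by_contra hcon
      push Not at hcon
      exact hns ⟨hcon⟩
    obtain ⟨z, hz1, hz2⟩ := (dense_preimage hQ (pullback.fst (C.ι ≫ π) (C.ι ≫ π) ≫ (C.ι ≫ π) ≫ m)).inter_open_nonempty
      _ hopen ⟨y₀, hy₀⟩
    obtain ⟨K, _, _, ζ, rfl⟩ := Dif.exists_pt z
    apply hz1
    have hz3 : (ζ ≫ pullback.fst (C.ι ≫ π) (C.ι ≫ π) ≫ C.ι ≫ π) default ∈ m ⁻¹' Q := by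
      have h1 : (ζ ≫ (pullback.fst (C.ι ≫ π) (C.ι ≫ π) ≫ (C.ι ≫ π) ≫ m)) default ∈ Q := hz2
      have h2 : ζ ≫ (pullback.fst (C.ι ≫ π) (C.ι ≫ π) ≫ (C.ι ≫ π) ≫ m) =
          (ζ ≫ pullback.fst (C.ι ≫ π) (C.ι ≫ π) ≫ C.ι ≫ π) ≫ m := by simp only [Category.assoc]
      rw [h2] at h1
      exact h1
    have hpt : ∀ c : Spec (CommRingCat.of K) ⟶ C, (c ≫ C.ι ≫ π) default ∈ m ⁻¹' Q →
        C.ι (c default) = s ((c ≫ C.ι ≫ π) default) := by
      intro c hc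
      have h1 : g (C.ι (c default)) = True := (c default).2
      have h2 := hg' ⟨C.ι (c default), hc⟩
      rw [h1] at h2
      exact h2 ▸ trivial
    have hc : ζ ≫ pullback.fst (C.ι ≫ π) (C.ι ≫ π) ≫ C.ι ≫ π = ζ ≫ pullback.snd (C.ι ≫ π) (C.ι ≫ π) ≫ C.ι ≫ π := by
      rw [pullback.condition]
    have h1 := hpt (ζ ≫ pullback.fst _ _) (by simpa only [Category.assoc] using hz3)
    have h2 := hpt (ζ ≫ pullback.snd _ _) (by
      simp only [Category.assoc]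
      rw [← hc]
      exact hz3)
    simp only [Category.assoc] at h1 h2
    rw [← hc, ← h1] at h2
    obtain ⟨O, hyO, hO⟩ := hT (π ≫ m) inferInstance (C.ι ((ζ ≫ pullback.fst (C.ι ≫ π) (C.ι ≫ π)) default))
    have hr : ∀ c : Spec (CommRingCat.of K) ⟶ C, C.ι (c default) ∈ O → Set.range (c ≫ C.ι) ⊆ Set.range O.ι := by
      rintro c hc _ ⟨a, rfl⟩
      rw [Scheme.Opens.range_ι, Subsingleton.elim a default]
      exact hc
    have hr1 := hr (ζ ≫ pullback.fst _ _) hyO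
    have hr2 := hr (ζ ≫ pullback.snd _ _) (by
      simp only [Scheme.Hom.comp_apply] at h2 hyO ⊢
      rw [h2]
      exact hyO)
    have e1 := IsOpenImmersion.lift_fac O.ι _ hr1
    have e2 := IsOpenImmersion.lift_fac O.ι _ hr2
    have h3 : IsOpenImmersion.lift O.ι _ hr1 = IsOpenImmersion.lift O.ι _ hr2 := by
      have a1 : IsOpenImmersion.lift O.ι _ hr1 ≫ O.ι ≫ π ≫ m =
          ((ζ ≫ pullback.fst (C.ι ≫ π) (C.ι ≫ π)) ≫ C.ι) ≫ π ≫ m := by rw [← Category.assoc, e1]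
      have a2 : IsOpenImmersion.lift O.ι _ hr2 ≫ O.ι ≫ π ≫ m =
          ((ζ ≫ pullback.snd (C.ι ≫ π) (C.ι ≫ π)) ≫ C.ι) ≫ π ≫ m := by rw [← Category.assoc, e2]
      rw [← cancel_mono (O.ι ≫ π ≫ m), a1, a2]
      have h6 := congrArg (· ≫ m) hc
      simp only [Category.assoc] at h6 ⊢
      exact h6
    rw [h3, e2] at e1
    have h4 : ζ ≫ pullback.snd (C.ι ≫ π) (C.ι ≫ π) = ζ ≫ pullback.fst (C.ι ≫ π) (C.ι ≫ π) := by
      rw [← cancel_mono C.ι]
      exact e1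
    have h5 : (ζ ≫ pullback.fst (C.ι ≫ π) (C.ι ≫ π)) ≫ pullback.diagonal (C.ι ≫ π) = ζ := by
      apply pullback.hom_ext
      · rw [Category.assoc, pullback.diagonal_fst, Category.comp_id]
      · rw [Category.assoc, pullback.diagonal_snd, Category.comp_id, h4]
    exact ⟨(ζ ≫ pullback.fst (C.ι ≫ π) (C.ι ≫ π)) default, by
      rw [← Scheme.Hom.comp_apply, h5]⟩
  have hoi : IsOpenImmersion (C.ι ≫ π) := Groth.Agent.Sga1.EtaleSection.isOpenImmersion_of_etale_of_universallyInjective _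
  have hsurj : Surjective (C.ι ≫ π) := by
    refine ⟨fun y => ?_⟩
    have h1 : IsClopen (Set.range (C.ι ≫ π)) :=
      ⟨(C.ι ≫ π).isClosedMap.isClosed_range, (C.ι ≫ π).isOpenEmbedding.isOpen_range⟩
    by_contra hne
    obtain ⟨q, hq1, hq2⟩ := (dense_preimage hQ m).inter_open_nonempty _ h1.isClosed.isOpen_compl ⟨y, hne⟩
    refine hq1 ⟨⟨s q, ?_⟩, hs q⟩
    show g (s q) = True
    rw [hg' ⟨s q, by show m (π (s q)) ∈ Q; rw [hs]; exact hq2⟩]
    simp only [eq_iff_iff, iff_true]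
    rw [hs]
  have hiso : IsIso (C.ι ≫ π) := (isIso_iff_isOpenImmersion_and_epi_base _).2 ⟨hoi, (TopCat.epi_iff_surjective _).2 hsurj.1⟩
  exact ⟨inv (C.ι ≫ π) ≫ C.ι, by rw [Category.assoc, IsIso.inv_hom_id]⟩

/-- **Node AICX2**, from the local structure of étale schemes. -/
theorem aicX2_of (H : ∀ ⦃T : Scheme.{u}⦄ (Q : Set T), AicData Q → LocIm T) : AicX2.{u} := by
  intro X Z T j hj t Q ht hs hr hQ
  have hT := H Q hQ
  have hsub : ∀ {M : Scheme.{u}} (m : M ⟶ T), m ⁻¹' Q ⊆ (m ≫ t) ⁻¹' Set.range j := by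
    intro M m y hy
    exact hr _ hy
  refine ⟨ht, ?_, ?_, ?_, ?_⟩
  · intro x
    obtain ⟨y, -, hy⟩ := hs x
    exact ⟨y, hy⟩
  · intro M m hm
    exact (dense_preimage hQ m).mono (hsub m)
  · intro M m hm E _ f hf
    obtain ⟨g, hg, hg'⟩ := exists_extend hQ hT m (fun q => f ⟨q.1, hsub m q.2⟩)
    refine ⟨g, hg, ?_⟩
    have hU : IsOpen ((m ≫ t) ⁻¹' Set.range j) := j.isOpenEmbedding.isOpen_range.preimage (m ≫ t).continuous
    rintro ⟨x, hx⟩
    by_contra hne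
    have h1 : IsOpen {y : ↥((m ≫ t) ⁻¹' Set.range j) | g y.1 ≠ f y} := by
      have h2 : IsLocallyConstant (fun y : ↥((m ≫ t) ⁻¹' Set.range j) => (g y.1, f y)) :=
        (hg.comp_continuous continuous_subtype_val).prodMk hf
      exact h2 {p : E × E | p.1 ≠ p.2}
    have h3 : IsOpen (Subtype.val '' {y : ↥((m ≫ t) ⁻¹' Set.range j) | g y.1 ≠ f y}) :=
      hU.isOpenMap_subtype_val _ h1
    obtain ⟨q, ⟨y, hy1, hy2⟩, hq2⟩ := (dense_preimage hQ m).inter_open_nonempty _ h3 ⟨x, ⟨x, hx⟩, hne, rfl⟩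
    subst hy2
    exact hy1 (hg' ⟨y.1, hq2⟩)
  · intro M P m hm π hπ1 hπ2 hπ3
    exact exists_section hQ hT m π

end K260.AicX2
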