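import Groth.Agent.Pi1.K260.D1A1

/-!
# Essential surjectivity and proper morphisms: plan of Part A

* `Cmp F F'`: comparison of framed local solutions, with the function `H` on `T ×_Z M` comparing the frames.
* `CmpEx`, `CmpComp`, `CobA`, `ResTw`, `ResDel`: the nodes from which `PartA` follows (with `Ext`).
-/

set_option autoImplicit false
universe u

open CategoryTheory CategoryTheory.Limits AlgebraicGeometry IsLocalRing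

namespace K260.D1

open Groth.Agent.Etrest.StrictLoc K868.Bc

section A

variable {G : Type} [Group G] {X Z W T : Scheme.{u}} {j : X ⟶ Z} {w : W ⟶ X} {t : T ⟶ Z} {P₀ : FEt.Cat W}
  {ρ₀ : G →* Aut P₀} {B B' M : Scheme.{u}} {b : B ⟶ Z} {b' : B' ⟶ Z} {c : M ⟶ Z}

/-- A comparison of framed local solutions; `H` is the function on `T ×_Z M` with `τ' = H φ (τ)`. -/
structure Cmp (F : FSol t j w P₀ ρ₀ b) (F' : FSol t j w P₀ ρ₀ b') where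
  M : Scheme.{u}
  m : M ⟶ B
  m' : M ⟶ B'
  h : m' ≫ b' = m ≫ b
  et : Etale (pullback.lift m m' h.symm)
  δ : ↥(Dom F.S F'.S m rfl m' h) → G
  del : Del F.S F'.S m rfl m' h δ
  H : ↥(pullback t (m ≫ b)) → G
  lc : IsLocallyConstant H
  eq : ∀ v, H (xq j t (m ≫ b) v) = δ (xdp F F' m rfl m' h v)

/-- `S₁`, over `c : M ⟶ Z`, is the restriction of `S`, over `b : B ⟶ Z`, along `m : M ⟶ B`; `r` is the projection. -/
structure IsRes (S : Sol j w P₀ ρ₀ b) (S₁ : Sol j w P₀ ρ₀ c) (m : M ⟶ B) (r : S₁.P.left ⟶ S.P.left) : Prop where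
  comp : m ≫ b = c
  snd : r ≫ S.P.hom ≫ pullback.snd j b = S₁.P.hom ≫ pullback.snd j c ≫ m
  fst : r ≫ S.P.hom ≫ pullback.fst j b = S₁.P.hom ≫ pullback.fst j c
  act : ∀ g : G, (S₁.ρ g).hom.left ≫ r = r ≫ (S.ρ g).hom.left
  theta : ∀ (K : Type u) [Field K] [IsAlgClosed K] (x : Spec (CommRingCat.of K) ⟶ S₁.P.left)
    (y : Spec (CommRingCat.of K) ⟶ W) (f : x ≫ S₁.P.hom ≫ pullback.fst j c = y ≫ w)
    (f' : (x ≫ r) ≫ S.P.hom ≫ pullback.fst j b = y ≫ w),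
    pullback.lift x y f ≫ S₁.θ = pullback.lift (x ≫ r) y f' ≫ S.θ

end A

/-- **Node CMPEX**: comparisons exist around the points of the closed fibre. -/
def CmpEx : Prop := ∀ (R : Type u) [CommRing R] [IsLocalRing R] ⦃X Z W T : Scheme.{u}⦄
  (p : Z ⟶ Spec (CommRingCat.of R)) (j : X ⟶ Z) (w : W ⟶ X) (t : T ⟶ Z), IsOpenImmersion j → QuasiCompact j →
  IsClosedImmersion w → AicCov j t → ∀ (G : Type) [Group G] [Finite G], Loc p j w G →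
  ∀ (P₀ : FEt.Cat W) (ρ₀ : G →* Aut P₀), SGA1t.IsPrincipal G P₀ ρ₀ →
  ∀ ⦃B B' : Scheme.{u}⦄ (b : B ⟶ Z) (b' : B' ⟶ Z), Etale b → Etale b' →
  ∀ (F : FSol t j w P₀ ρ₀ b) (F' : FSol t j w P₀ ρ₀ b') (y : ↥(pullback b b')),
  p (b (pullback.fst b b' y)) = closedPoint R →
  ∃ (C : Cmp F F') (y' : C.M), pullback.lift C.m C.m' C.h.symm y' = y

/-- **Node CMPCOMP**: comparisons compose over the closed fibre. -/
def CmpComp : Prop := ∀ (R : Type u) [CommRing R] [IsLocalRing R] ⦃X Z W T : Scheme.{u}⦄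
  (p : Z ⟶ Spec (CommRingCat.of R)) (j : X ⟶ Z) (w : W ⟶ X) (t : T ⟶ Z), IsOpenImmersion j → QuasiCompact j →
  IsClosedImmersion w → AicCov j t → ∀ (G : Type) [Group G] [Finite G], Loc p j w G →
  ∀ (P₀ : FEt.Cat W) (ρ₀ : G →* Aut P₀), SGA1t.IsPrincipal G P₀ ρ₀ →
  ∀ ⦃B B' B'' : Scheme.{u}⦄ (b : B ⟶ Z) (b' : B' ⟶ Z) (b'' : B'' ⟶ Z), Etale b → Etale b' → Etale b'' →
  ∀ (F : FSol t j w P₀ ρ₀ b) (F' : FSol t j w P₀ ρ₀ b') (F'' : FSol t j w P₀ ρ₀ b'') (C : Cmp F F')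
    (C' : Cmp F' F'') (C'' : Cmp F F'') (K : Type u) [Field K] [IsAlgClosed K] (z : Spec (CommRingCat.of K) ⟶ T)
    (l : Spec (CommRingCat.of K) ⟶ C.M) (l' : Spec (CommRingCat.of K) ⟶ C'.M)
    (l'' : Spec (CommRingCat.of K) ⟶ C''.M) (_ : l ≫ C.m = l'' ≫ C''.m) (_ : l ≫ C.m' = l' ≫ C'.m)
    (_ : l' ≫ C'.m' = l'' ≫ C''.m') (e : z ≫ t = l ≫ C.m ≫ b) (e' : z ≫ t = l' ≫ C'.m ≫ b')
    (e'' : z ≫ t = l'' ≫ C''.m ≫ b), p (t (z default)) = closedPoint R →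
  C''.H (pullback.lift z l'' e'' default) =
    C'.H (pullback.lift z l' e' default) * C.H (pullback.lift z l e default)

/-- **Node COBA**: the comparison functions are coboundaries over the closed fibre. -/
def CobA : Prop := ∀ (R : Type u) [CommRing R] [IsLocalRing R], HenselianLocalRing R →
  ∀ ⦃X Z W T : Scheme.{u}⦄ (p : Z ⟶ Spec (CommRingCat.of R)) (j : X ⟶ Z)
  (w : W ⟶ X) (t : T ⟶ Z), IsProper p → IsOpenImmersion j → QuasiCompact j → IsClosedImmersion w → AicCov j t →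
  ∀ (G : Type) [Group G] [Finite G], Loc p j w G → ∀ (P₀ : FEt.Cat W) (ρ₀ : G →* Aut P₀),
  SGA1t.IsPrincipal G P₀ ρ₀ →
  ∃ (n : ℕ) (B : Fin n → Scheme.{u}) (b : ∀ i, B i ⟶ Z) (F : ∀ i, FSol t j w P₀ ρ₀ (b i))
    (k : ∀ i, ↥(pullback (pullback.fst (t ≫ p) (resPt R) ≫ t) (b i)) → G),
    (∀ i, Etale (b i)) ∧ (∀ z : Z, p z = closedPoint R → ∃ i, z ∈ Set.range (b i)) ∧
    (∀ i, IsLocallyConstant (k i)) ∧
    ∀ (i i' : Fin n) (C : Cmp (F i) (F i')) (K : Type u) [Field K] [IsAlgClosed K]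
      (z : Spec (CommRingCat.of K) ⟶ pullback (t ≫ p) (resPt R)) (l : Spec (CommRingCat.of K) ⟶ C.M)
      (e : z ≫ pullback.fst (t ≫ p) (resPt R) ≫ t = (l ≫ C.m) ≫ b i)
      (e' : z ≫ pullback.fst (t ≫ p) (resPt R) ≫ t = (l ≫ C.m') ≫ b i')
      (e'' : (z ≫ pullback.fst (t ≫ p) (resPt R)) ≫ t = l ≫ C.m ≫ b i),
      C.H (pullback.lift (z ≫ pullback.fst (t ≫ p) (resPt R)) l e'' default) =
        k i' (pullback.lift z (l ≫ C.m') e' default) * (k i (pullback.lift z (l ≫ C.m) e default))⁻¹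

/-- **Node RES, 1**: restriction and twist by a function of framed local solutions. -/
def ResTw : Prop := ∀ ⦃X Z W T : Scheme.{u}⦄ (j : X ⟶ Z) (w : W ⟶ X) (t : T ⟶ Z) (G : Type) [Group G] [Finite G]
  (P₀ : FEt.Cat W) (ρ₀ : G →* Aut P₀) ⦃B M : Scheme.{u}⦄ (b : B ⟶ Z) (F : FSol t j w P₀ ρ₀ b) (m : M ⟶ B)
  (c : M ⟶ Z), m ≫ b = c → ∀ (k : ↥(pullback t c) → G), IsLocallyConstant k →
  ∃ (F₁ : FSol t j w P₀ ρ₀ c) (r : F₁.S.P.left ⟶ F.S.P.left), IsRes F.S F₁.S m r ∧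
    ∀ (K : Type u) [Field K] [IsAlgClosed K] (x : Spec (CommRingCat.of K) ⟶ X) (z : Spec (CommRingCat.of K) ⟶ T)
      (l : Spec (CommRingCat.of K) ⟶ M) (e : x ≫ j = l ≫ c) (e' : z ≫ t = l ≫ c) (f : x ≫ j = (l ≫ m) ≫ b)
      (f' : z ≫ t = (l ≫ m) ≫ b),
      (xp j t c x z l e e' ≫ F₁.τ) ≫ r =
        (xp j t b x z (l ≫ m) f f' ≫ F.τ) ≫ (F.S.ρ (k (pullback.lift z l e' default))⁻¹).hom.left

/-- **Node RES, 2**: restriction of comparisons. -/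
def ResDel : Prop := ∀ ⦃X Z W : Scheme.{u}⦄ (j : X ⟶ Z) (w : W ⟶ X) (G : Type) [Group G] [Finite G]
  (P₀ : FEt.Cat W) (ρ₀ : G →* Aut P₀) ⦃B B' M M' N : Scheme.{u}⦄ (b : B ⟶ Z) (b' : B' ⟶ Z) (c : M ⟶ Z)
  (c' : M' ⟶ Z) (S : Sol j w P₀ ρ₀ b) (S' : Sol j w P₀ ρ₀ b') (S₁ : Sol j w P₀ ρ₀ c) (S₁' : Sol j w P₀ ρ₀ c')
  (m : M ⟶ B) (m' : M' ⟶ B') (r : S₁.P.left ⟶ S.P.left) (r' : S₁'.P.left ⟶ S'.P.left), IsRes S S₁ m r →
  IsRes S' S₁' m' r' → ∀ (n : N ⟶ M) (n' : N ⟶ M') (d : N ⟶ Z) (q : (n ≫ m) ≫ b = d) (q' : (n' ≫ m') ≫ b' = d)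
  (s : n ≫ c = d) (s' : n' ≫ c' = d) (δ : ↥(Dom S S' (n ≫ m) q (n' ≫ m') q') → G),
  Del S S' (n ≫ m) q (n' ≫ m') q' δ →
  ∃ δ₁ : ↥(Dom S₁ S₁' n s n' s') → G, Del S₁ S₁' n s n' s' δ₁ ∧
    ∀ (K : Type u) [Field K] [IsAlgClosed K] (x : Spec (CommRingCat.of K) ⟶ S₁.P.left)
      (x' : Spec (CommRingCat.of K) ⟶ S₁'.P.left) (l : Spec (CommRingCat.of K) ⟶ N)
      (e : x ≫ S₁.P.hom ≫ pullback.snd j c = l ≫ n) (e' : x' ≫ S₁'.P.hom ≫ pullback.snd j c' = l ≫ n')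
      (e'' : x ≫ S₁.P.hom ≫ pullback.fst j c = x' ≫ S₁'.P.hom ≫ pullback.fst j c')
      (f : (x ≫ r) ≫ S.P.hom ≫ pullback.snd j b = l ≫ n ≫ m)
      (f' : (x' ≫ r') ≫ S'.P.hom ≫ pullback.snd j b' = l ≫ n' ≫ m')
      (f'' : (x ≫ r) ≫ S.P.hom ≫ pullback.fst j b = (x' ≫ r') ≫ S'.P.hom ≫ pullback.fst j b'),
      δ₁ (dp S₁ S₁' n s n' s' x x' l e e' e'' default) =
        δ (dp S S' (n ≫ m) q (n' ≫ m') q' (x ≫ r) (x' ≫ r') l f f' f'' default)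

end K260.D1
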