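import Groth.Agent.Pi1.K260.D1Plan
import Groth.Agent.Pi1.K260.Dif

/-!
# Points of the fibre products in the plan of D1-ES
-/

set_option autoImplicit false
universe u

open CategoryTheory CategoryTheory.Limits AlgebraicGeometry IsLocalRing

namespace K260.D1

variable {G : Type} [Group G] {X Z W : Scheme.{u}} {j : X ⟶ Z} {w : W ⟶ X} {P₀ : FEt.Cat W} {ρ₀ : G →* Aut P₀}
  {B B' M N A A' : Scheme.{u}} {b : B ⟶ Z} {b' : B' ⟶ Z} {c : M ⟶ Z}

section Kp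

variable (S : Sol j w P₀ ρ₀ b) (m : M ⟶ B) (h : m ≫ b = c)

theorem Sol.kp_snd (x : A ⟶ S.P.left) (l : A ⟶ M) (e : x ≫ S.P.hom ≫ pullback.snd j b = l ≫ m)
    (e' : (x ≫ S.P.hom ≫ pullback.fst j b) ≫ j = l ≫ c) :
    S.kp m h x l e ≫ pullback.snd _ _ = pullback.lift (x ≫ S.P.hom ≫ pullback.fst j b) l e' :=
  pullback.lift_snd _ _ _

theorem Sol.pm_ext {a a' : A ⟶ S.PM m h} (h1 : a ≫ pullback.fst _ _ = a' ≫ pullback.fst _ _)
    (h2 : a ≫ pullback.snd _ _ ≫ pullback.snd _ _ = a' ≫ pullback.snd _ _ ≫ pullback.snd _ _) : a = a' := by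
  apply pullback.hom_ext h1
  apply pullback.hom_ext
  · have e1 : kap j m h ≫ pullback.fst j b = pullback.fst j c := pullback.lift_fst _ _ _
    rw [← e1, Category.assoc, Category.assoc, ← pullback.condition_assoc, reassoc_of% h1]
  · simpa only [Category.assoc] using h2

theorem Sol.comp_kp (k : A' ⟶ A) (x : A ⟶ S.P.left) (l : A ⟶ M)
    (e : x ≫ S.P.hom ≫ pullback.snd j b = l ≫ m)
    (e' : (k ≫ x) ≫ S.P.hom ≫ pullback.snd j b = (k ≫ l) ≫ m) :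
    k ≫ S.kp m h x l e = S.kp m h (k ≫ x) (k ≫ l) e' := by
  apply S.pm_ext
  · rw [Category.assoc, S.kp_fst, S.kp_fst]
  · rw [Category.assoc, S.kp_snd_snd, S.kp_snd_snd]

/-- The projection of the base change of the cover. -/
noncomputable def Sol.pmFst : S.PM m h ⟶ S.P.left := pullback.fst S.P.hom (kap j m h)

/-- The projection of the base change of the cover to `M`. -/
noncomputable def Sol.pmM : S.PM m h ⟶ M := pullback.snd S.P.hom (kap j m h) ≫ pullback.snd j c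

theorem Sol.pm_cond : S.pmFst m h ≫ S.P.hom ≫ pullback.snd j b = S.pmM m h ≫ m := by
  have e1 : kap j m h ≫ pullback.snd j b = pullback.snd j c ≫ m := pullback.lift_snd _ _ _
  rw [pmFst, pmM, pullback.condition_assoc, e1, Category.assoc]

theorem Sol.pm_cond_fst : S.pmFst m h ≫ S.P.hom ≫ pullback.fst j b =
    pullback.snd S.P.hom (kap j m h) ≫ pullback.fst j c := by
  have e1 : kap j m h ≫ pullback.fst j b = pullback.fst j c := pullback.lift_fst _ _ _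
  rw [pmFst, pullback.condition_assoc, e1]

theorem Sol.kp_congr {x x' : A ⟶ S.P.left} {l l' : A ⟶ M} (hx : x = x') (hl : l = l')
    (e : x ≫ S.P.hom ≫ pullback.snd j b = l ≫ m) (e' : x' ≫ S.P.hom ≫ pullback.snd j b = l' ≫ m) :
    S.kp m h x l e = S.kp m h x' l' e' := by
  subst hx hl
  rfl

end Kp

section Dp

variable (S : Sol j w P₀ ρ₀ b) (S' : Sol j w P₀ ρ₀ b') (m : M ⟶ B) (h : m ≫ b = c) (m' : M ⟶ B')
  (h' : m' ≫ b' = c)

theorem dp_fst (x : A ⟶ S.P.left) (x' : A ⟶ S'.P.left) (l : A ⟶ M)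
    (e : x ≫ S.P.hom ≫ pullback.snd j b = l ≫ m) (e' : x' ≫ S'.P.hom ≫ pullback.snd j b' = l ≫ m')
    (e'' : x ≫ S.P.hom ≫ pullback.fst j b = x' ≫ S'.P.hom ≫ pullback.fst j b') :
    dp S S' m h m' h' x x' l e e' e'' ≫ pullback.fst _ _ = S.kp m h x l e := pullback.lift_fst _ _ _

theorem dp_snd (x : A ⟶ S.P.left) (x' : A ⟶ S'.P.left) (l : A ⟶ M)
    (e : x ≫ S.P.hom ≫ pullback.snd j b = l ≫ m) (e' : x' ≫ S'.P.hom ≫ pullback.snd j b' = l ≫ m')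
    (e'' : x ≫ S.P.hom ≫ pullback.fst j b = x' ≫ S'.P.hom ≫ pullback.fst j b') :
    dp S S' m h m' h' x x' l e e' e'' ≫ pullback.snd _ _ = S'.kp m' h' x' l e' := pullback.lift_snd _ _ _

theorem dp_congr {x y : A ⟶ S.P.left} {x' y' : A ⟶ S'.P.left} {l k : A ⟶ M} (hx : x = y) (hx' : x' = y')
    (hl : l = k)
    (e : x ≫ S.P.hom ≫ pullback.snd j b = l ≫ m) (e' : x' ≫ S'.P.hom ≫ pullback.snd j b' = l ≫ m')
    (e'' : x ≫ S.P.hom ≫ pullback.fst j b = x' ≫ S'.P.hom ≫ pullback.fst j b')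
    (f : y ≫ S.P.hom ≫ pullback.snd j b = k ≫ m) (f' : y' ≫ S'.P.hom ≫ pullback.snd j b' = k ≫ m')
    (f'' : y ≫ S.P.hom ≫ pullback.fst j b = y' ≫ S'.P.hom ≫ pullback.fst j b') :
    dp S S' m h m' h' x x' l e e' e'' = dp S S' m h m' h' y y' k f f' f'' := by
  subst hx hx' hl
  rfl

theorem comp_dp (k : A' ⟶ A) (x : A ⟶ S.P.left) (x' : A ⟶ S'.P.left) (l : A ⟶ M)
    (e : x ≫ S.P.hom ≫ pullback.snd j b = l ≫ m) (e' : x' ≫ S'.P.hom ≫ pullback.snd j b' = l ≫ m')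
    (e'' : x ≫ S.P.hom ≫ pullback.fst j b = x' ≫ S'.P.hom ≫ pullback.fst j b')
    (f : (k ≫ x) ≫ S.P.hom ≫ pullback.snd j b = (k ≫ l) ≫ m)
    (f' : (k ≫ x') ≫ S'.P.hom ≫ pullback.snd j b' = (k ≫ l) ≫ m')
    (f'' : (k ≫ x) ≫ S.P.hom ≫ pullback.fst j b = (k ≫ x') ≫ S'.P.hom ≫ pullback.fst j b') :
    k ≫ dp S S' m h m' h' x x' l e e' e'' = dp S S' m h m' h' (k ≫ x) (k ≫ x') (k ≫ l) f f' f'' := by
  apply pullback.hom_ext
  · rw [Category.assoc, dp_fst, dp_fst, S.comp_kp m h k x l e f]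
  · rw [Category.assoc, dp_snd, dp_snd, S'.comp_kp m' h' k x' l e' f']

/-- The first component. -/
noncomputable def dX : Dom S S' m h m' h' ⟶ S.P.left := pullback.fst _ _ ≫ S.pmFst m h

/-- The second component. -/
noncomputable def dX' : Dom S S' m h m' h' ⟶ S'.P.left := pullback.snd _ _ ≫ S'.pmFst m' h'

/-- The third component. -/
noncomputable def dM : Dom S S' m h m' h' ⟶ M := pullback.fst _ _ ≫ S.pmM m h

theorem dM_eq : dM S S' m h m' h' = pullback.snd _ _ ≫ S'.pmM m' h' := by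
  rw [dM, Sol.pmM, Sol.pmM, pullback.condition_assoc]

theorem d_cond : dX S S' m h m' h' ≫ S.P.hom ≫ pullback.snd j b = dM S S' m h m' h' ≫ m := by
  rw [dX, Category.assoc, S.pm_cond]
  exact (Category.assoc _ _ _).symm

theorem d_cond' : dX' S S' m h m' h' ≫ S'.P.hom ≫ pullback.snd j b' = dM S S' m h m' h' ≫ m' := by
  rw [dM_eq, dX', Category.assoc, S'.pm_cond]
  exact (Category.assoc _ _ _).symm

theorem d_cond'' : dX S S' m h m' h' ≫ S.P.hom ≫ pullback.fst j b =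
    dX' S S' m h m' h' ≫ S'.P.hom ≫ pullback.fst j b' := by
  rw [dX, dX', Category.assoc, Category.assoc, S.pm_cond_fst, S'.pm_cond_fst, pullback.condition_assoc]

theorem dp_dX (x : A ⟶ S.P.left) (x' : A ⟶ S'.P.left) (l : A ⟶ M)
    (e : x ≫ S.P.hom ≫ pullback.snd j b = l ≫ m) (e' : x' ≫ S'.P.hom ≫ pullback.snd j b' = l ≫ m')
    (e'' : x ≫ S.P.hom ≫ pullback.fst j b = x' ≫ S'.P.hom ≫ pullback.fst j b') :
    dp S S' m h m' h' x x' l e e' e'' ≫ dX S S' m h m' h' = x := by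
  rw [dX, ← Category.assoc, dp_fst, Sol.pmFst, S.kp_fst]

theorem dp_dX' (x : A ⟶ S.P.left) (x' : A ⟶ S'.P.left) (l : A ⟶ M)
    (e : x ≫ S.P.hom ≫ pullback.snd j b = l ≫ m) (e' : x' ≫ S'.P.hom ≫ pullback.snd j b' = l ≫ m')
    (e'' : x ≫ S.P.hom ≫ pullback.fst j b = x' ≫ S'.P.hom ≫ pullback.fst j b') :
    dp S S' m h m' h' x x' l e e' e'' ≫ dX' S S' m h m' h' = x' := by
  rw [dX', ← Category.assoc, dp_snd, Sol.pmFst, S'.kp_fst]

theorem dp_dM (x : A ⟶ S.P.left) (x' : A ⟶ S'.P.left) (l : A ⟶ M)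
    (e : x ≫ S.P.hom ≫ pullback.snd j b = l ≫ m) (e' : x' ≫ S'.P.hom ≫ pullback.snd j b' = l ≫ m')
    (e'' : x ≫ S.P.hom ≫ pullback.fst j b = x' ≫ S'.P.hom ≫ pullback.fst j b') :
    dp S S' m h m' h' x x' l e e' e'' ≫ dM S S' m h m' h' = l := by
  rw [dM, ← Category.assoc, dp_fst, Sol.pmM, S.kp_snd_snd]

/-- Every point of `Dom` is of the form `dp`. -/
theorem eq_dp (a : A ⟶ Dom S S' m h m' h')
    (e : (a ≫ dX S S' m h m' h') ≫ S.P.hom ≫ pullback.snd j b = (a ≫ dM S S' m h m' h') ≫ m)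
    (e' : (a ≫ dX' S S' m h m' h') ≫ S'.P.hom ≫ pullback.snd j b' = (a ≫ dM S S' m h m' h') ≫ m')
    (e'' : (a ≫ dX S S' m h m' h') ≫ S.P.hom ≫ pullback.fst j b =
      (a ≫ dX' S S' m h m' h') ≫ S'.P.hom ≫ pullback.fst j b') :
    a = dp S S' m h m' h' (a ≫ dX S S' m h m' h') (a ≫ dX' S S' m h m' h') (a ≫ dM S S' m h m' h') e e' e'' := by
  apply pullback.hom_ext
  · rw [dp_fst]
    apply S.pm_ext
    · rw [S.kp_fst, dX, Category.assoc]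
      rfl
    · rw [S.kp_snd_snd, dM, Sol.pmM]
      simp only [Category.assoc]
  · rw [dp_snd]
    apply S'.pm_ext
    · rw [S'.kp_fst, dX', Category.assoc]
      rfl
    · rw [S'.kp_snd_snd, dM_eq, Sol.pmM]
      simp only [Category.assoc]

theorem exists_dp (a : A ⟶ Dom S S' m h m' h') :
    ∃ (x : A ⟶ S.P.left) (x' : A ⟶ S'.P.left) (l : A ⟶ M)
      (e : x ≫ S.P.hom ≫ pullback.snd j b = l ≫ m) (e' : x' ≫ S'.P.hom ≫ pullback.snd j b' = l ≫ m')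
      (e'' : x ≫ S.P.hom ≫ pullback.fst j b = x' ≫ S'.P.hom ≫ pullback.fst j b'),
      a = dp S S' m h m' h' x x' l e e' e'' :=
  ⟨_, _, _, _, _, _, eq_dp S S' m h m' h' a
    ((Category.assoc _ _ _).trans ((congrArg (a ≫ ·) (d_cond S S' m h m' h')).trans (Category.assoc _ _ _).symm))
    ((Category.assoc _ _ _).trans ((congrArg (a ≫ ·) (d_cond' S S' m h m' h')).trans (Category.assoc _ _ _).symm))
    ((Category.assoc _ _ _).trans ((congrArg (a ≫ ·) (d_cond'' S S' m h m' h')).trans (Category.assoc _ _ _).symm))⟩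

/-- Restriction along `n : N ⟶ M`. -/
noncomputable def dmap (n : N ⟶ M) (k : (n ≫ m) ≫ b = n ≫ c) (k' : (n ≫ m') ≫ b' = n ≫ c) :
    Dom S S' (n ≫ m) k (n ≫ m') k' ⟶ Dom S S' m h m' h' :=
  dp S S' m h m' h' (dX S S' _ k _ k') (dX' S S' _ k _ k') (dM S S' _ k _ k' ≫ n)
    (by rw [d_cond, Category.assoc]) (by rw [d_cond', Category.assoc]) (d_cond'' S S' _ k _ k')

theorem dp_dmap (n : N ⟶ M) (k : (n ≫ m) ≫ b = n ≫ c) (k' : (n ≫ m') ≫ b' = n ≫ c)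
    (x : A ⟶ S.P.left) (x' : A ⟶ S'.P.left) (l : A ⟶ N)
    (e : x ≫ S.P.hom ≫ pullback.snd j b = l ≫ n ≫ m) (e' : x' ≫ S'.P.hom ≫ pullback.snd j b' = l ≫ n ≫ m')
    (e'' : x ≫ S.P.hom ≫ pullback.fst j b = x' ≫ S'.P.hom ≫ pullback.fst j b')
    (f : x ≫ S.P.hom ≫ pullback.snd j b = (l ≫ n) ≫ m)
    (f' : x' ≫ S'.P.hom ≫ pullback.snd j b' = (l ≫ n) ≫ m') :
    dp S S' (n ≫ m) k (n ≫ m') k' x x' l e e' e'' ≫ dmap S S' m h m' h' n k k' =
      dp S S' m h m' h' x x' (l ≫ n) f f' e'' := by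
  rw [dmap, comp_dp S S' m h m' h' _ _ _ _ _ _ _
    (by rw [← Category.assoc, dp_dX, ← Category.assoc (dp _ _ _ _ _ _ _ _ _ _ _ _), dp_dM]; exact f)
    (by rw [← Category.assoc, dp_dX', ← Category.assoc (dp _ _ _ _ _ _ _ _ _ _ _ _), dp_dM]; exact f')
    (by rw [dp_dX, dp_dX', e''])]
  exact dp_congr S S' m h m' h' (dp_dX ..) (dp_dX' ..) (by rw [← Category.assoc, dp_dM]) _ _ _ _ _ _

end Dp

section DelComp

variable {S : Sol j w P₀ ρ₀ b} {S' : Sol j w P₀ ρ₀ b'} {m : M ⟶ B} {h : m ≫ b = c} {m' : M ⟶ B'}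
  {h' : m' ≫ b' = c} {δ : ↥(Dom S S' m h m' h') → G}

theorem Del.comp (hD : Del S S' m h m' h' δ) (n : N ⟶ M) (k : (n ≫ m) ≫ b = n ≫ c)
    (k' : (n ≫ m') ≫ b' = n ≫ c) :
    Del S S' (n ≫ m) k (n ≫ m') k' (fun a => δ (dmap S S' m h m' h' n k k' a)) := by
  have key : ∀ {A : Scheme.{u}} (a₀ : A) (x : A ⟶ S.P.left) (x' : A ⟶ S'.P.left) (l : A ⟶ N)
      (e : x ≫ S.P.hom ≫ pullback.snd j b = l ≫ n ≫ m) (e' : x' ≫ S'.P.hom ≫ pullback.snd j b' = l ≫ n ≫ m')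
      (e'' : x ≫ S.P.hom ≫ pullback.fst j b = x' ≫ S'.P.hom ≫ pullback.fst j b')
      (f : x ≫ S.P.hom ≫ pullback.snd j b = (l ≫ n) ≫ m)
      (f' : x' ≫ S'.P.hom ≫ pullback.snd j b' = (l ≫ n) ≫ m'),
      dmap S S' m h m' h' n k k' (dp S S' (n ≫ m) k (n ≫ m') k' x x' l e e' e'' a₀) =
        dp S S' m h m' h' x x' (l ≫ n) f f' e'' a₀ := by
    intro A a₀ x x' l e e' e'' f f'
    rw [← Scheme.Hom.comp_apply, dp_dmap S S' m h m' h' n k k' x x' l e e' e'' f f']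
  refine ⟨hD.lc.comp_continuous (dmap S S' m h m' h' n k k').continuous, ?_, ?_⟩
  · intro K _ _ x x' l e e' e'' g g' f f' f''
    have e1 := e.trans (Category.assoc _ _ _).symm
    have e1' := e'.trans (Category.assoc _ _ _).symm
    have e2 := f.trans (Category.assoc _ _ _).symm
    have e2' := f'.trans (Category.assoc _ _ _).symm
    simp only [key _ _ _ l f f' f'' e2 e2', key _ _ _ l e e' e'' e1 e1']
    exact hD.act K x x' (l ≫ n) e1 e1' e'' g g' e2 e2' f''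
  · intro K _ _ x x' l e e' e'' y f f'
    have e1 := e.trans (Category.assoc _ _ _).symm
    have e1' := e'.trans (Category.assoc _ _ _).symm
    simp only [key _ _ _ l e e' e'' e1 e1']
    exact hD.theta K x x' (l ≫ n) e1 e1' e'' y f f'

end DelComp

section XTpts

variable {T : Scheme.{u}} {t : T ⟶ Z}

/-- First component. -/
noncomputable def xX (j : X ⟶ Z) (t : T ⟶ Z) (b : B ⟶ Z) : XT j t b ⟶ X := pullback.fst _ _ ≫ pullback.fst j b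

/-- Second component. -/
noncomputable def xT (j : X ⟶ Z) (t : T ⟶ Z) (b : B ⟶ Z) : XT j t b ⟶ T := pullback.snd _ _ ≫ pullback.fst t b

/-- Third component. -/
noncomputable def xB (j : X ⟶ Z) (t : T ⟶ Z) (b : B ⟶ Z) : XT j t b ⟶ B := pullback.fst _ _ ≫ pullback.snd j b

theorem xB_eq (j : X ⟶ Z) (t : T ⟶ Z) (b : B ⟶ Z) : xB j t b = pullback.snd _ _ ≫ pullback.snd t b := pullback.condition

theorem x_cond (j : X ⟶ Z) (t : T ⟶ Z) (b : B ⟶ Z) : xX j t b ≫ j = xB j t b ≫ b := by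
  rw [xX, xB, Category.assoc, Category.assoc, pullback.condition]

theorem x_cond' (j : X ⟶ Z) (t : T ⟶ Z) (b : B ⟶ Z) : xT j t b ≫ t = xB j t b ≫ b := by
  rw [xT, xB_eq, Category.assoc, Category.assoc, pullback.condition]

theorem xp_fst (x : A ⟶ X) (y : A ⟶ T) (l : A ⟶ B) (e : x ≫ j = l ≫ b) (e' : y ≫ t = l ≫ b) :
    xp j t b x y l e e' ≫ pullback.fst _ _ = pullback.lift x l e := pullback.lift_fst _ _ _

theorem xp_snd (x : A ⟶ X) (y : A ⟶ T) (l : A ⟶ B) (e : x ≫ j = l ≫ b) (e' : y ≫ t = l ≫ b) :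
    xp j t b x y l e e' ≫ pullback.snd _ _ = pullback.lift y l e' := pullback.lift_snd _ _ _

theorem xp_xX (x : A ⟶ X) (y : A ⟶ T) (l : A ⟶ B) (e : x ≫ j = l ≫ b) (e' : y ≫ t = l ≫ b) :
    xp j t b x y l e e' ≫ xX j t b = x := by
  rw [xX, ← Category.assoc, xp_fst, pullback.lift_fst]

theorem xp_xT (x : A ⟶ X) (y : A ⟶ T) (l : A ⟶ B) (e : x ≫ j = l ≫ b) (e' : y ≫ t = l ≫ b) :
    xp j t b x y l e e' ≫ xT j t b = y := by
  rw [xT, ← Category.assoc, xp_snd, pullback.lift_fst]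

theorem xp_xB (x : A ⟶ X) (y : A ⟶ T) (l : A ⟶ B) (e : x ≫ j = l ≫ b) (e' : y ≫ t = l ≫ b) :
    xp j t b x y l e e' ≫ xB j t b = l := by
  rw [xB, ← Category.assoc, xp_fst, pullback.lift_snd]

theorem xp_congr {x x' : A ⟶ X} {y y' : A ⟶ T} {l l' : A ⟶ B} (hx : x = x') (hy : y = y') (hl : l = l')
    (e : x ≫ j = l ≫ b) (e' : y ≫ t = l ≫ b) (f : x' ≫ j = l' ≫ b) (f' : y' ≫ t = l' ≫ b) :
    xp j t b x y l e e' = xp j t b x' y' l' f f' := by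
  subst hx hy hl
  rfl

theorem xt_ext {a a' : A ⟶ XT j t b} (h1 : a ≫ xX j t b = a' ≫ xX j t b) (h2 : a ≫ xT j t b = a' ≫ xT j t b)
    (h3 : a ≫ xB j t b = a' ≫ xB j t b) : a = a' := by
  apply pullback.hom_ext
  · apply pullback.hom_ext
    · simpa only [xX, Category.assoc] using h1
    · simpa only [xB, Category.assoc] using h3
  · apply pullback.hom_ext
    · simpa only [xT, Category.assoc] using h2
    · simpa only [xB_eq, Category.assoc] using h3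

theorem comp_xp (k : A' ⟶ A) (x : A ⟶ X) (y : A ⟶ T) (l : A ⟶ B) (e : x ≫ j = l ≫ b) (e' : y ≫ t = l ≫ b)
    (f : (k ≫ x) ≫ j = (k ≫ l) ≫ b) (f' : (k ≫ y) ≫ t = (k ≫ l) ≫ b) :
    k ≫ xp j t b x y l e e' = xp j t b (k ≫ x) (k ≫ y) (k ≫ l) f f' := by
  apply xt_ext
  · rw [Category.assoc, xp_xX, xp_xX]
  · rw [Category.assoc, xp_xT, xp_xT]
  · rw [Category.assoc, xp_xB, xp_xB]

theorem exists_xp (a : A ⟶ XT j t b) : ∃ (x : A ⟶ X) (y : A ⟶ T) (l : A ⟶ B) (e : x ≫ j = l ≫ b)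
    (e' : y ≫ t = l ≫ b), a = xp j t b x y l e e' := by
  refine ⟨a ≫ xX j t b, a ≫ xT j t b, a ≫ xB j t b, ?_, ?_, ?_⟩
  · rw [Category.assoc, x_cond, Category.assoc]
  · rw [Category.assoc, x_cond', Category.assoc]
  · apply xt_ext
    · rw [xp_xX]
    · rw [xp_xT]
    · rw [xp_xB]

/-- Restriction along `m`. -/
noncomputable def xmap (j : X ⟶ Z) (t : T ⟶ Z) (m : M ⟶ B) (h : m ≫ b = c) : XT j t c ⟶ XT j t b :=
  xp j t b (xX j t c) (xT j t c) (xB j t c ≫ m) (by rw [x_cond, Category.assoc, h])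
    (by rw [x_cond', Category.assoc, h])

theorem xp_xmap (m : M ⟶ B) (h : m ≫ b = c) (x : A ⟶ X) (y : A ⟶ T) (l : A ⟶ M) (e : x ≫ j = l ≫ c)
    (e' : y ≫ t = l ≫ c) (f : x ≫ j = (l ≫ m) ≫ b) (f' : y ≫ t = (l ≫ m) ≫ b) :
    xp j t c x y l e e' ≫ xmap j t m h = xp j t b x y (l ≫ m) f f' := by
  apply xt_ext
  · rw [Category.assoc, xmap, xp_xX, xp_xX, xp_xX]
  · rw [Category.assoc, xmap, xp_xT, xp_xT, xp_xT]
  · rw [Category.assoc, xmap, xp_xB, xp_xB, ← Category.assoc, xp_xB]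

theorem FSol.xmap_τ_snd (F : FSol t j w P₀ ρ₀ b) (m : M ⟶ B) (h : m ≫ b = c) :
    (xmap j t m h ≫ F.τ) ≫ F.S.P.hom ≫ pullback.snd j b = xB j t c ≫ m := by
  rw [xmap, F.xp_τ_snd]

theorem FSol.xmap_τ_fst (F : FSol t j w P₀ ρ₀ b) (m : M ⟶ B) (h : m ≫ b = c) :
    (xmap j t m h ≫ F.τ) ≫ F.S.P.hom ≫ pullback.fst j b = xX j t c := by
  rw [xmap, F.xp_τ_fst]

/-- The pair of frames, as a morphism. -/
noncomputable def xdp (F : FSol t j w P₀ ρ₀ b) (F' : FSol t j w P₀ ρ₀ b') (m : M ⟶ B) (h : m ≫ b = c)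
    (m' : M ⟶ B') (h' : m' ≫ b' = c) : XT j t c ⟶ Dom F.S F'.S m h m' h' :=
  dp F.S F'.S m h m' h' (xmap j t m h ≫ F.τ) (xmap j t m' h' ≫ F'.τ) (xB j t c) (F.xmap_τ_snd m h)
    (F'.xmap_τ_snd m' h') ((F.xmap_τ_fst m h).trans (F'.xmap_τ_fst m' h').symm)

theorem xp_xdp (F : FSol t j w P₀ ρ₀ b) (F' : FSol t j w P₀ ρ₀ b') (m : M ⟶ B) (h : m ≫ b = c)
    (m' : M ⟶ B') (h' : m' ≫ b' = c) (x : A ⟶ X) (y : A ⟶ T) (l : A ⟶ M) (e : x ≫ j = l ≫ c)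
    (e' : y ≫ t = l ≫ c) (f : x ≫ j = (l ≫ m) ≫ b) (f' : y ≫ t = (l ≫ m) ≫ b)
    (g : x ≫ j = (l ≫ m') ≫ b') (g' : y ≫ t = (l ≫ m') ≫ b') :
    xp j t c x y l e e' ≫ xdp F F' m h m' h' =
      dp F.S F'.S m h m' h' (xp j t b x y (l ≫ m) f f' ≫ F.τ) (xp j t b' x y (l ≫ m') g g' ≫ F'.τ) l
        (F.xp_τ_snd _ _ _ _ _) (F'.xp_τ_snd _ _ _ _ _)
        ((F.xp_τ_fst _ _ _ _ _).trans (F'.xp_τ_fst _ _ _ _ _).symm) := by
  have e1 : xp j t c x y l e e' ≫ xmap j t m h ≫ F.τ = xp j t b x y (l ≫ m) f f' ≫ F.τ := by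
    rw [← Category.assoc, xp_xmap m h x y l e e' f f']
  have e2 : xp j t c x y l e e' ≫ xmap j t m' h' ≫ F'.τ = xp j t b' x y (l ≫ m') g g' ≫ F'.τ := by
    rw [← Category.assoc, xp_xmap m' h' x y l e e' g g']
  have e3 : xp j t c x y l e e' ≫ xB j t c = l := xp_xB _ _ _ _ _
  rw [xdp, comp_dp F.S F'.S m h m' h' _ _ _ _ _ _ _
    (by rw [e1, e3]; exact F.xp_τ_snd _ _ _ _ _) (by rw [e2, e3]; exact F'.xp_τ_snd _ _ _ _ _)
    (by rw [e1, e2, F.xp_τ_fst, F'.xp_τ_fst])]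
  exact dp_congr _ _ _ _ _ _ e1 e2 e3 _ _ _ _ _ _

theorem xdp_dmap (F : FSol t j w P₀ ρ₀ b) (F' : FSol t j w P₀ ρ₀ b') (m : M ⟶ B) (h : m ≫ b = c)
    (m' : M ⟶ B') (h' : m' ≫ b' = c) (n : N ⟶ M) (k : (n ≫ m) ≫ b = n ≫ c) (k' : (n ≫ m') ≫ b' = n ≫ c) :
    xdp F F' (n ≫ m) k (n ≫ m') k' ≫ dmap F.S F'.S m h m' h' n k k' =
      xmap j t n rfl ≫ xdp F F' m h m' h' := by
  rw [xmap, xp_xdp F F' m h m' h' _ _ _ _ _ (by rw [x_cond, ← k]; simp only [Category.assoc])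
    (by rw [x_cond', ← k]; simp only [Category.assoc]) (by rw [x_cond, ← k']; simp only [Category.assoc])
    (by rw [x_cond', ← k']; simp only [Category.assoc]), xdp]
  rw [dp_dmap F.S F'.S m h m' h' n k k' _ _ _ _ _ _
    (by rw [F.xmap_τ_snd, Category.assoc]) (by rw [F'.xmap_τ_snd, Category.assoc])]
  apply dp_congr
  · rw [xmap]
    exact congrArg (· ≫ F.τ) (xp_congr rfl rfl (Category.assoc _ _ _).symm _ _ _ _)
  · rw [xmap]
    exact congrArg (· ≫ F'.τ) (xp_congr rfl rfl (Category.assoc _ _ _).symm _ _ _ _)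
  · rfl

end XTpts

end K260.D1
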