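import Groth.Agent.Pi1.K260.D1Plan

/-!
# Essential surjectivity and proper morphisms: reduction to the nodes of the plan
-/

set_option autoImplicit false
universe u

open CategoryTheory CategoryTheory.Limits AlgebraicGeometry IsLocalRing

namespace K260.Es

open Groth.Agent.Etrest.StrictLoc K868.Bc K260.D1

theorem isClosedImmersion_resPt (R : Type u) [CommRing R] [IsLocalRing R] :
    IsClosedImmersion (resPt R) :=
  IsClosedImmersion.spec_of_surjective _ IsLocalRing.residue_surjective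

/-- Essential surjectivity passes from `j` to `j ≫ p`, `p` proper; from the nodes of the plan. -/
theorem esc_of (hL : LocOf.{u}) (hA : PartA.{u}) (hB : PartB.{u}) (x1 : AicX1.{u}) (x2 : AicX2.{u}) (n : ℕ)
    {X Z Y S : Scheme.{u}} (j : X ⟶ Z) [IsOpenImmersion j] [QuasiCompact j] (p : Z ⟶ Y) [IsProper p] (b : Y ⟶ S)
    (h1 : ESc n j (p ≫ b)) (h2 : FF (n * n) j (p ≫ b)) (h3 : Faith j (p ≫ b)) : ESc n (j ≫ p) b := by
  intro O A _ _ _ _ hO hs hn t Y₁ c b₁ hb σ hσ hσ' XA x fA hx Xs i q hi G _ _ hG P' ρ' hP'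
  have hz : IsPullback (pullback.fst p (σ ≫ c)) (pullback.snd p (σ ≫ c)) p (σ ≫ c) := IsPullback.of_hasPullback _ _
  let jA : XA ⟶ pullback p (σ ≫ c) := pullback.lift (x ≫ j) fA (by rw [Category.assoc, hx.w])
  have e1 : jA ≫ pullback.snd p (σ ≫ c) = fA := pullback.lift_snd _ _ _
  have e2 : jA ≫ pullback.fst p (σ ≫ c) = x ≫ j := pullback.lift_fst _ _ _
  have hx' : IsPullback x jA j (pullback.fst p (σ ≫ c)) := by
    refine IsPullback.of_bot ?_ e2.symm hz
    rw [e1]
    exact hx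
  have hi' : IsPullback i q (jA ≫ pullback.snd p (σ ≫ c) ≫ σ ≫ b₁) (resPt O) := by
    rw [← Category.assoc, e1]
    exact hi
  have hloc := hL n j p b h1 h2 h3 O A hO hs hn t c b₁ hb σ hσ hσ' (pullback.fst p (σ ≫ c))
    (pullback.snd p (σ ≫ c)) hz x jA hx' i q hi' G hG
  have hj : IsOpenImmersion jA := MorphismProperty.of_isPullback hx' inferInstance
  have hq : QuasiCompact jA := MorphismProperty.of_isPullback hx' inferInstance
  have hres := isClosedImmersion_resPt O
  have hw : IsClosedImmersion i := MorphismProperty.of_isPullback hi.flip inferInstance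
  have hA1 := hσ.henselian
  have hA2 := hσ.sepClosed
  obtain ⟨T, τ, Q, i1, i2, i3, i4⟩ := x1 jA hj
  have hT := x2 jA hj τ Q i1 i2 i3 i4
  obtain ⟨I, B, β, F, f1, f2, f3⟩ := hA A hA1 hA2 (pullback.snd p (σ ≫ c)) jA i τ inferInstance hj hq hw hT G
    hloc P' ρ' hP'
  exact hB A hA1 hA2 (pullback.snd p (σ ≫ c)) jA i τ inferInstance hj hq hw hT G P' ρ' hP' I B β F f1 f2 f3

end K260.Es
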